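import Cfsg.Agent.Ov.A

set_option autoImplicit false
set_option linter.unusedSectionVars false

namespace Cfsg.Agent.Ov.PE

open Configuration Finset

section Act
variable {G X : Type*} [Group G] [MulAction G X]

open Classical in
theorem burn (S : Subgroup G) [Fintype S] (T : Finset X) (hT : ∀ s ∈ S, ∀ x ∈ T, s • x ∈ T) :
    Nat.card S ∣ ∑ s : S, (F T (s : G)).card := by
  let Y : SubMulAction S X := ⟨(T : Set X), fun s x hx => hT s s.2 x hx⟩
  haveI : Finite Y := T.finite_toSet.to_subtype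
  letI : Fintype Y := Fintype.ofFinite Y
  have h := MulAction.sum_card_fixedBy_eq_card_orbits_mul_card_group S Y
  have h2 : ∀ s : S, Fintype.card (MulAction.fixedBy Y s) = (F T (s : G)).card := by
    intro s
    rw [← Fintype.card_coe]
    refine Fintype.card_congr ⟨fun y => ⟨y.1.1, mem_F.2 ⟨y.1.2, congrArg Subtype.val y.2⟩⟩,
      fun y => ⟨⟨y.1, (mem_F.1 y.2).1⟩, Subtype.ext (mem_F.1 y.2).2⟩, fun _ => rfl, fun _ => rfl⟩
  simp only [h2] at h
  rw [h, Nat.card_eq_fintype_card]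
  exact Dvd.intro_left _ rfl

open Classical in
theorem modp {p : ℕ} (hp : p.Prime) {g : G} (hg : g ^ p = 1) (T : Finset X)
    (hT : ∀ x ∈ T, g • x ∈ T) : T.card % p = (F T g).card % p := by
  haveI := Fact.mk hp
  let f : Function.End T := fun x => ⟨g • x.1, hT _ x.2⟩
  have hk : ∀ (k : ℕ) (x : T), ((f ^ k) x).1 = g ^ k • x.1 := by
    intro k
    induction k with
    | zero => intro x; simp; rfl
    | succ k ih =>
      intro x
      rw [pow_succ, pow_succ, mul_smul]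
      exact ih (f x)
  have hf : f ^ p ^ 1 = 1 := by
    funext x
    apply Subtype.ext
    rw [hk, pow_one, hg, one_smul]; rfl
  have h := Equiv.Perm.card_fixedPoints_modEq hf
  have h2 : Fintype.card (Function.fixedPoints f) = (F T g).card := by
    rw [← Fintype.card_coe]
    refine Fintype.card_congr ⟨fun y => ⟨y.1.1, mem_F.2 ⟨y.1.2, congrArg Subtype.val y.2⟩⟩,
      fun y => ⟨⟨y.1, (mem_F.1 y.2).1⟩, Subtype.ext (mem_F.1 y.2).2⟩, fun _ => rfl, fun _ => rfl⟩
  rw [h2, Fintype.card_coe] at h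
  exact h

theorem pow_fix {g : G} {x : X} (h : g • x = x) (k : ℕ) : g ^ k • x = x := by
  induction k with
  | zero => simp
  | succ k ih => rw [pow_succ, mul_smul, h, ih]

theorem two_inv {S : Subgroup G} (hS : IsPGroup 2 S) {s : G} (hs : s ∈ S) (h1 : s ≠ 1) :
    ∃ k : ℕ, Iv (s ^ k) ∧ (s * s ≠ 1 → ∃ j : ℕ, s ^ j * s ^ j = s ^ k) := by
  haveI : Fact (Nat.Prime 2) := ⟨Nat.prime_two⟩
  obtain ⟨n, hn⟩ := (IsPGroup.iff_orderOf.1 hS) ⟨s, hs⟩
  rw [Subgroup.orderOf_mk] at hn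
  rcases n with _ | n
  · exact absurd (orderOf_eq_one_iff.1 hn) h1
  refine ⟨2 ^ n, ⟨?_, fun h => ?_⟩, fun h => ?_⟩
  · rw [← pow_add, ← two_mul, ← pow_succ', ← hn, pow_orderOf_eq_one]
  · have := orderOf_dvd_of_pow_eq_one h
    rw [hn] at this
    have := (Nat.pow_dvd_pow_iff_le_right (by norm_num : 1 < 2)).1 this
    omega
  · rcases n with _ | n
    · exfalso; apply h
      rw [← pow_two]; have := pow_orderOf_eq_one s; rw [hn] at this; simpa using this
    · exact ⟨2 ^ n, by rw [← pow_add, ← two_mul, ← pow_succ']⟩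

theorem free2 [Finite G] {S : Subgroup G} (hS : IsPGroup 2 S) (T : Finset X)
    (hT : ∀ s ∈ S, ∀ x ∈ T, s • x ∈ T) (hf : ∀ v ∈ S, Iv v → ∀ x ∈ T, v • x ≠ x) :
    Nat.card S ∣ T.card := by
  classical
  letI : Fintype S := Fintype.ofFinite S
  have h := burn S T hT
  rw [Finset.sum_eq_single (1 : S)] at h
  · have : F T ((1 : S) : G) = T := by ext x; simp [mem_F]
    rwa [this] at h
  · intro s _ h1
    rw [Finset.card_eq_zero, Finset.eq_empty_iff_forall_notMem]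
    intro x hx
    obtain ⟨k, hk, -⟩ := two_inv hS s.2 (fun h => h1 (Subtype.ext h))
    exact hf _ (S.pow_mem s.2 k) hk x (mem_F.1 hx).1 (pow_fix (mem_F.1 hx).2 k)
  · simp

end Act

variable {G L P : Type*} [Membership P L] [Fintype P] [Fintype L] [ProjectivePlane P L]

theorem exL (L : Type*) [Membership P L] [Fintype L] [ProjectivePlane P L] {p q : P} (h : p ≠ q) :
    ∃ l : L, p ∈ l ∧ q ∈ l :=
  (HasLines.existsUnique_line P L p q h).exists

theorem exP (P : Type*) [Membership P L] [Fintype P] [ProjectivePlane P L] {l m : L} (h : l ≠ m) :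
    ∃ p : P, p ∈ l ∧ p ∈ m :=
  (HasPoints.existsUnique_point P L l m h).exists

theorem eqL {p q : P} {l m : L} (h : p ≠ q) (h1 : p ∈ l) (h2 : q ∈ l) (h3 : p ∈ m) (h4 : q ∈ m) :
    l = m :=
  (Nondegenerate.eq_or_eq h1 h2 h3 h4).resolve_left h

theorem eqP {p q : P} {l m : L} (h : l ≠ m) (h1 : p ∈ l) (h2 : q ∈ l) (h3 : p ∈ m) (h4 : q ∈ m) :
    p = q :=
  (Nondegenerate.eq_or_eq h1 h2 h3 h4).resolve_right h

open Classical in
noncomputable def pts (P : Type*) [Membership P L] [Fintype P] (l : L) : Finset P :=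
  univ.filter (· ∈ l)

open Classical in
noncomputable def lns (L : Type*) [Membership P L] [Fintype L] (p : P) : Finset L :=
  univ.filter (p ∈ ·)

@[simp] theorem mem_pts {l : L} {p : P} : p ∈ pts P l ↔ p ∈ l := by simp [pts]
@[simp] theorem mem_lns {l : L} {p : P} : l ∈ lns L p ↔ p ∈ l := by simp [lns]

theorem card_pts (l : L) : (pts P l).card = ProjectivePlane.order P L + 1 := by
  classical
  rw [← ProjectivePlane.pointCount_eq P l, pointCount, Nat.card_eq_fintype_card,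
    Fintype.card_subtype]
  congr

theorem card_lns (p : P) : (lns L p).card = ProjectivePlane.order P L + 1 := by
  classical
  rw [← ProjectivePlane.lineCount_eq L p, lineCount, Nat.card_eq_fintype_card,
    Fintype.card_subtype]
  congr

theorem av {α : Type*} {s : Finset α} (h : 2 < s.card) (p q : α) : ∃ x ∈ s, x ≠ p ∧ x ≠ q := by
  classical
  by_contra hn
  push Not at hn
  have : s ⊆ {p, q} := fun x hx => by
    by_cases h1 : x = p
    · simp [h1]
    · simp [hn x hx h1]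
  have := (card_le_card this).trans card_le_two
  omega

theorem avP (l : L) (p q : P) : ∃ x ∈ l, x ≠ p ∧ x ≠ q := by
  have := ProjectivePlane.one_lt_order P L
  obtain ⟨x, h, h'⟩ := av (s := pts P l) (by rw [card_pts]; omega) p q
  exact ⟨x, mem_pts.1 h, h'⟩

theorem avL (p : P) (l m : L) : ∃ x : L, p ∈ x ∧ x ≠ l ∧ x ≠ m := by
  have := ProjectivePlane.one_lt_order P L
  obtain ⟨x, h, h'⟩ := av (s := lns L p) (by rw [card_lns]; omega) l m
  exact ⟨x, mem_lns.1 h, h'⟩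

theorem off {l m : L} (h : l ≠ m) (p : P) : ∃ x ∈ l, x ∉ m ∧ x ≠ p := by
  obtain ⟨y, h1, h2⟩ := exP P h
  obtain ⟨x, hx, hy, hp⟩ := avP l y p
  exact ⟨x, hx, fun hm => hy (eqP h hx h1 hm h2), hp⟩

variable [Group G] [MulAction G P] [MulAction G L] {O : Finset P}

theorem fixL (h : OV G L O) {g : G} {p q : P} {l : L} (hpq : p ≠ q) (h1 : p ∈ l) (h2 : q ∈ l)
    (h3 : g • p ∈ l) (h4 : g • q ∈ l) : g • l = l :=
  eqL (fun e => hpq (smul_left_cancel g e)) ((h.coll g p l).2 h1) ((h.coll g q l).2 h2) h3 h4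

theorem fixP (h : OV G L O) {g : G} {p : P} {l m : L} (hlm : l ≠ m) (h1 : p ∈ l) (h2 : p ∈ m)
    (h3 : g • l = l) (h4 : g • m = m) : g • p = p :=
  eqP hlm (h3 ▸ (h.coll g p l).2 h1) h1 (h4 ▸ (h.coll g p m).2 h2) h2

theorem memL (h : OV G L O) {g : G} {p : P} {l : L} (h1 : g • l = l) (h2 : p ∈ l) : g • p ∈ l :=
  h1 ▸ (h.coll g p l).2 h2

theorem par (h : OV G L O) {t : G} (ht : t * t = 1) {l : L} (hl : t • l = l) :
    (F (pts P l) t).card % 2 = 0 := by
  have h1 := modp Nat.prime_two (g := t) (by rw [pow_two, ht]) (pts P l)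
    (fun x hx => mem_pts.2 (memL h hl (mem_pts.1 hx)))
  rw [card_pts] at h1
  obtain ⟨k, hk⟩ := h.odd
  omega

/-- `t` is a homology with centre `C` and axis `a` -/
structure HM (t : G) (C : P) (a : L) : Prop where
  ca : C ∉ a
  fc : t • C = C
  fa : t • a = a
  ln : ∀ l : L, C ∈ l → t • l = l
  pt : ∀ p ∈ a, t • p = p
  fp : ∀ p : P, t • p = p → p = C ∨ p ∈ a
  fl : ∀ l : L, t • l = l → C ∈ l ∨ l = a

theorem key (h : OV G L O) {t : G} (ht : t * t = 1) (fr : ∀ p ∈ O, t • p ≠ p) {C : P}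
    (fc : t • C = C) (hC : ∀ b ∈ O, ∀ l : L, b ∈ l → C ∈ l → t • b ∈ l) {a a' : L}
    (ha : t • a = a) (ha' : t • a' = a') (hc : C ∉ a) (hc' : C ∉ a') : a = a' := by
  classical
  by_contra hne
  have tt : ∀ p : P, t • t • p = p := fun p => by rw [← mul_smul, ht, one_smul]
  have ch : ∀ b ∈ O, ∀ l : L, b ∈ l → C ∈ l → t • l = l := fun b hb l h1 h2 =>
    fixL h (fr b hb).symm h1 (hC b hb l h1 h2) (hC b hb l h1 h2) (by rw [tt]; exact h1)
  have bC : ∀ b ∈ O, b ≠ C := fun b hb e => fr b hb (by rw [e, fc])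
  obtain ⟨Y, Y1, Y2⟩ := exP P hne
  have YC : C ≠ Y := fun e => hc (e ▸ Y1)
  obtain ⟨l0, l0C, l0Y⟩ := exL L YC
  have n1 := ProjectivePlane.one_lt_order P L
  obtain ⟨Z, ZO, hZ⟩ : ∃ Z ∈ O, ∀ b ∈ O, b ∈ l0 → Z ∈ l0 := by
    by_cases hx : ∃ Z ∈ O, Z ∈ l0
    · obtain ⟨Z, h1, h2⟩ := hx
      exact ⟨Z, h1, fun _ _ _ => h2⟩
    · obtain ⟨Z, hZ⟩ : O.Nonempty := card_pos.1 (by rw [h.card]; omega)
      exact ⟨Z, hZ, fun b h1 h2 => absurd ⟨b, h1, h2⟩ hx⟩
  obtain ⟨lZ, Z1, Z2⟩ := exL L (bC Z ZO)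
  set n := ProjectivePlane.order P L with hn
  let B := (O.erase Z).erase (t • Z)
  have hB : ∀ b ∈ B, b ∈ O ∧ b ∉ lZ := by
    intro b hb
    simp only [B, mem_erase] at hb
    refine ⟨hb.2.2, fun hl => ?_⟩
    rcases h.arc lZ b hb.2.2 Z ZO (t • Z) (h.inv t Z ZO) hl Z1 (hC Z ZO lZ Z1 Z2) with e | e | e
    · exact hb.2.1 e
    · exact hb.1 e
    · exact fr Z ZO e.symm
  have cB : B.card = n - 1 := by
    simp only [B]
    rw [card_erase_of_mem (mem_erase.2 ⟨fr Z ZO, h.inv t Z ZO⟩), card_erase_of_mem ZO, h.card]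
    rfl
  have four : ∀ b ∈ B, ∀ l : L, b ∈ l → C ∈ l → 4 ≤ (F (pts P l) t).card := by
    intro b hb l h1 h2
    have fl := ch b (hB b hb).1 l h1 h2
    have la : l ≠ a := fun e => hc (e ▸ h2)
    have la' : l ≠ a' := fun e => hc' (e ▸ h2)
    obtain ⟨X, X1, X2⟩ := exP P la
    obtain ⟨X', X1', X2'⟩ := exP P la'
    have XX : X ≠ X' := by
      rintro rfl
      have e := eqP hne X2 Y1 X2' Y2
      subst e
      have e2 := eqL YC h2 X1 l0C l0Y
      subst e2
      have := hZ b (hB b hb).1 h1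
      exact (hB b hb).2 (eqL (bC Z ZO) this h2 Z1 Z2 ▸ h1)
    have hs : ({C, X, X'} : Finset P) ⊆ F (pts P l) t := by
      intro x hx
      simp only [mem_insert, mem_singleton] at hx
      rcases hx with rfl | rfl | rfl
      · exact mem_F.2 ⟨mem_pts.2 h2, fc⟩
      · exact mem_F.2 ⟨mem_pts.2 X1, fixP h la X1 X2 fl ha⟩
      · exact mem_F.2 ⟨mem_pts.2 X1', fixP h la' X1' X2' fl ha'⟩
    have h3 : ({C, X, X'} : Finset P).card = 3 :=
      card_eq_three.2 ⟨C, X, X', fun e => hc (e ▸ X2), fun e => hc' (e ▸ X2'), XX, rfl⟩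
    have := card_le_card hs
    have := par h ht fl
    omega
  have n4 : 4 ≤ n := by
    obtain ⟨b, hb⟩ : B.Nonempty := card_pos.1 (by omega)
    obtain ⟨l, h1, h2⟩ := exL L (bC b (hB b hb).1)
    have h4 := four b hb l h1 h2
    have : F (pts P l) t ⊆ (pts P l).erase b := fun x hx =>
      mem_erase.2 ⟨fun e => fr b (hB b hb).1 (e ▸ (mem_F.1 hx).2), (mem_F.1 hx).1⟩
    have := card_le_card this
    rw [card_erase_of_mem (mem_pts.2 h1), card_pts] at this
    omega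
  let T := (univ : Finset P).filter fun x => t • x = x ∧ x ∉ lZ
  have cT : T.card ≤ n := by
    have hZx : ∀ x ∈ T, Z ≠ x := fun x hx e => (mem_filter.1 hx).2.2 (e ▸ Z1)
    let f : P → L := fun x => if hx : Z ≠ x then (exL L hx).choose else lZ
    have hf : ∀ x ∈ T, Z ∈ f x ∧ x ∈ f x := fun x hx => by
      simp only [f, dif_pos (hZx x hx)]; exact (exL L (hZx x hx)).choose_spec
    have hne' : ∀ x ∈ T, f x ≠ lZ := fun x hx e => (mem_filter.1 hx).2.2 (e ▸ (hf x hx).2)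
    have : T.card ≤ ((lns L Z).erase lZ).card := by
      refine card_le_card_of_injOn f (fun x hx => ?_) (fun x hx y hy e => ?_)
      · exact mem_coe.2 (mem_erase.2 ⟨hne' x hx, mem_lns.2 (hf x hx).1⟩)
      · by_contra hxy
        have x1 := (mem_filter.1 hx).2.1
        have y1 := (mem_filter.1 hy).2.1
        have y2 : y ∈ f x := e ▸ (hf y hy).2
        have := fixL h (g := t) hxy (hf x hx).2 y2 (by rw [x1]; exact (hf x hx).2)
          (by rw [y1]; exact y2)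
        exact fr Z ZO (fixP h (hne' x hx) (hf x hx).1 Z1 this (ch Z ZO lZ Z1 Z2))
    rw [card_erase_of_mem (mem_lns.2 Z1), card_lns] at this
    omega
  have dc : B.card * 3 ≤ T.card * 2 := by
    refine card_mul_le_card_mul (fun b x => ∃ l : L, b ∈ l ∧ C ∈ l ∧ x ∈ l) ?_ ?_
    · intro b hb
      obtain ⟨l, h1, h2⟩ := exL L (bC b (hB b hb).1)
      have h4 := four b hb l h1 h2
      have : (F (pts P l) t).erase C ⊆
          T.bipartiteAbove (fun b x => ∃ l : L, b ∈ l ∧ C ∈ l ∧ x ∈ l) b := by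
        intro x hx
        obtain ⟨x1, x2⟩ := mem_erase.1 hx
        obtain ⟨x2, x3⟩ := mem_F.1 x2
        refine (mem_bipartiteAbove _).2 ⟨mem_filter.2 ⟨mem_univ _, x3, fun hl => ?_⟩,
          l, h1, h2, mem_pts.1 x2⟩
        exact (hB b hb).2 (eqL x1 (mem_pts.1 x2) h2 hl Z2 ▸ h1)
      have := card_le_card this
      have := pred_card_le_card_erase (s := F (pts P l) t) (a := C)
      omega
    · intro x hx
      by_contra hlt
      obtain ⟨b1, b2, b3, m1, m2, m3, e1, e2, e3⟩ := two_lt_card_iff.1 (not_le.1 hlt)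
      obtain ⟨m1, l1, p1, q1, r1⟩ := (mem_bipartiteBelow _).1 m1
      obtain ⟨m2, l2, p2, q2, r2⟩ := (mem_bipartiteBelow _).1 m2
      obtain ⟨m3, l3, p3, q3, r3⟩ := (mem_bipartiteBelow _).1 m3
      have xC : C ≠ x := fun e => (mem_filter.1 hx).2.2 (e ▸ Z2)
      have f2 := eqL xC q2 r2 q1 r1
      have f3 := eqL xC q3 r3 q1 r1
      subst f2; subst f3
      rcases h.arc _ b1 (hB _ m1).1 b2 (hB _ m2).1 b3 (hB _ m3).1 p1 p2 p3 with e | e | e
      · exact e1 e
      · exact e2 e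
      · exact e3 e
  omega

theorem hom (h : OV G L O) {t : G} (ht : t * t = 1) (fr : ∀ p ∈ O, t • p ≠ p) {C : P}
    (hO : C ∉ O) (hC : ∀ b ∈ O, ∀ l : L, b ∈ l → C ∈ l → t • b ∈ l) : ∃ a : L, HM t C a := by
  classical
  have tt : ∀ p : P, t • t • p = p := fun p => by rw [← mul_smul, ht, one_smul]
  have ch : ∀ b ∈ O, ∀ l : L, b ∈ l → C ∈ l → t • l = l := fun b hb l h1 h2 =>
    fixL h (fr b hb).symm h1 (hC b hb l h1 h2) (hC b hb l h1 h2) (by rw [tt]; exact h1)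
  have bC : ∀ b ∈ O, b ≠ C := fun b hb e => hO (e ▸ hb)
  have n1 := ProjectivePlane.one_lt_order P L
  obtain ⟨b1, o1, -⟩ := av (s := O) (by rw [h.card]; omega) C C
  obtain ⟨b2, o2, d1, d2⟩ := av (s := O) (by rw [h.card]; omega) b1 (t • b1)
  obtain ⟨l1, p1, q1⟩ := exL L (bC b1 o1)
  obtain ⟨l2, p2, q2⟩ := exL L (bC b2 o2)
  have l12 : l1 ≠ l2 := by
    rintro rfl
    rcases h.arc l1 b2 o2 b1 o1 (t • b1) (h.inv t _ o1) p2 p1 (hC b1 o1 l1 p1 q1) with e | e | e
    · exact d1 e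
    · exact d2 e
    · exact fr b1 o1 e.symm
  have f1 := ch b1 o1 l1 p1 q1
  have f2 := ch b2 o2 l2 p2 q2
  have fc := fixP h l12 q1 q2 f1 f2
  have snd : ∀ l : L, C ∈ l → t • l = l → ∃ X ∈ l, X ≠ C ∧ t • X = X := by
    intro l h1 h2
    have h3 := par h ht h2
    have h4 : C ∈ F (pts P l) t := mem_F.2 ⟨mem_pts.2 h1, fc⟩
    have h5 := card_pos.2 ⟨C, h4⟩
    obtain ⟨X, X1, X2⟩ := exists_mem_ne (s := F (pts P l) t) (by omega) C
    exact ⟨X, mem_pts.1 (mem_F.1 X1).1, X2, (mem_F.1 X1).2⟩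
  obtain ⟨X1, x1, y1, z1⟩ := snd l1 q1 f1
  obtain ⟨X2, x2, y2, z2⟩ := snd l2 q2 f2
  have X12 : X1 ≠ X2 := by
    rintro rfl
    exact l12 (eqL y1 x1 q1 x2 q2)
  obtain ⟨a, a1, a2⟩ := exL L X12
  have fa : t • a = a := fixL h X12 a1 a2 (by rw [z1]; exact a1) (by rw [z2]; exact a2)
  have ca : C ∉ a := fun hc => l12 ((eqL y1 x1 q1 a1 hc).trans (eqL y2 a2 hc x2 q2))
  have fl : ∀ l : L, t • l = l → C ∈ l ∨ l = a := fun l hl => by
    by_cases hc : C ∈ l
    · exact Or.inl hc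
    · exact Or.inr (key h ht fr fc hC hl fa hc ca)
  have ln : ∀ l : L, C ∈ l → t • l = l := by
    intro l hl
    obtain ⟨X, hX, Xa, XC⟩ := off (P := P) (show l ≠ a from fun e => ca (e ▸ hl)) C
    by_cases hx : t • X = X
    · exact fixL h XC hX hl (by rw [hx]; exact hX) (by rw [fc]; exact hl)
    · obtain ⟨m, m1, m2⟩ := exL L hx
      have fm : t • m = m := fixL h hx m1 m2 (by rw [tt]; exact m2) m1
      rcases fl m fm with e | e
      · rw [eqL XC hX hl m2 e]; exact fm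
      · exact absurd (e ▸ m2) Xa
  have pt : ∀ p ∈ a, t • p = p := by
    intro p hp
    obtain ⟨l, h1, h2⟩ := exL L (show C ≠ p from fun e => ca (e ▸ hp))
    exact fixP h (show l ≠ a from fun e => ca (e ▸ h1)) h2 hp (ln l h1) fa
  refine ⟨a, ca, fc, fa, ln, pt, fun p hp => ?_, fl⟩
  by_contra hn
  push Not at hn
  obtain ⟨l, h1, h2⟩ := exL L hn.1
  obtain ⟨Y, Ya, Yl, -⟩ := off (P := P) (show a ≠ l from fun e => ca (e ▸ h2)) C
  have pY : p ≠ Y := fun e => hn.2 (e ▸ Ya)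
  obtain ⟨m, m1, m2⟩ := exL L pY
  rcases fl m (fixL h pY m1 m2 (by rw [hp]; exact m1) (by rw [pt Y Ya]; exact m2)) with e | e
  · exact Yl (eqL hn.1 m1 e h1 h2 ▸ m2)
  · exact hn.2 (e ▸ m1)

end Cfsg.Agent.Ov.PE
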