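import Mathlib

set_option autoImplicit false

namespace Cfsg.Agent.Ov

open Classical in
/-- points of `O` fixed by `g` -/
noncomputable def F {G P : Type*} [Group G] [MulAction G P] (O : Finset P) (g : G) : Finset P :=
  O.filter fun p => g • p = p

theorem mem_F {G P : Type*} [Group G] [MulAction G P] {O : Finset P} {g : G} {p : P} :
    p ∈ F O g ↔ p ∈ O ∧ g • p = p := by
  unfold F; simp

/-- an involution -/
def Iv {G : Type*} [Group G] (t : G) : Prop := t * t = 1 ∧ t ≠ 1

/-- the hypotheses on the plane, the oval `O` and the collineation group `G` -/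
structure OV (G L : Type*) {P : Type*} [Membership P L] [Fintype P] [Fintype L]
    [Configuration.ProjectivePlane P L] [Group G] [MulAction G P] [MulAction G L]
    (O : Finset P) : Prop where
  odd : Odd (Configuration.ProjectivePlane.order P L)
  coll : ∀ (g : G) (p : P) (l : L), g • p ∈ g • l ↔ p ∈ l
  card : O.card = Configuration.ProjectivePlane.order P L + 1
  arc : ∀ l : L, ∀ p ∈ O, ∀ q ∈ O, ∀ r ∈ O, p ∈ l → q ∈ l → r ∈ l → p = q ∨ p = r ∨ q = r
  inv : ∀ g : G, ∀ p ∈ O, g • p ∈ O
  faith : ∀ g : G, (∀ p : P, g • p = p) → g = 1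

/-- an odd-order element inverted by an involution centralises at most one involution -/
def UU (G : Type*) [Group G] : Prop :=
  ∀ x v s s' : G, x ≠ 1 → Odd (orderOf x) → Iv v → v * x * v = x⁻¹ → Iv s → Iv s' →
    s * x = x * s → s' * x = x * s' → s = s'

end Cfsg.Agent.Ov
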