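import Cfsg.Agent.H19.W3

/-! The columns of the principal block at the classes of `GL₂(3)` with a power equal to the central involution. -/

set_option autoImplicit false

namespace Cfsg.Agent.Ov.PX

open Cfsg Cfsg.Agent.H19 M3 Finset
open scoped Matrix

/-- a power is the central involution -/
def Db (m : M3) : Prop := ∃ j : Fin 5, m ^ (j : ℕ) = T

instance : DecidablePred Db := fun m => inferInstanceAs (Decidable (∃ j : Fin 5, m ^ (j : ℕ) = T))

/-- a reflection -/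
def Rf (u : M3) : Prop := u * u = 1 ∧ u ≠ 1 ∧ u ≠ T

instance : DecidablePred Rf := fun u => inferInstanceAs (Decidable (u * u = 1 ∧ u ≠ 1 ∧ u ≠ T))

/-- the number of conjugators -/
def nc (m m' : M3) : ℕ := (univ.filter fun n : M3 => n * m'⁻¹ * n⁻¹ = m).card

/-- the number of pairs of reflections with given product -/
def np (m : M3) : ℕ := (univ.filter fun u : M3 => Rf u ∧ Rf (m * u)⁻¹).card

/-- values on the special classes -/
structure Vl (ω : ℂ) (c : M3 → ℂ) (a1 a2 a3 a4 a5 d : ℤ) : Prop where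
  vT : c T = (2 * a1 + 4 * a2 + 3 * a3 + a4 - 2 * a5 : ℤ)
  vY : c (R ^ 2) = (2 * a5 - a3 + a4 : ℤ)
  vS : c (T * X) = (a4 + a5 - a1 - 2 * a2 : ℤ)
  vR : c R = (a3 - a4 : ℤ) + a1 * ω
  vR' : c R⁻¹ = (a3 - a4 : ℤ) - a1 * ω
  d8 : 8 ∣ d + 2 * a1 + 4 * a2 + 5 * a3 - a4 + 2 * a5

set_option maxHeartbeats 2000000 in
theorem abs {ι : Type*} [Fintype ι] {c : ι → M3 → ℂ} {d a1 a2 a3 a4 a5 : ι → ℤ} {ω : ℂ} (hω : ω ^ 2 = -2) (o : ι)
    {κ : ℚ} (hκ : 0 < κ) (hd : ∀ i, 0 < d i) (V : ∀ i, Vl ω (c i) (a1 i) (a2 i) (a3 i) (a4 i) (a5 i) (d i))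
    (or2 : ∀ m m', Db m → Db m' → ∑ i, c i m * c i m' = nc m m')
    (or1 : ∀ m, Db m → ∑ i, d i * c i m = 0) (o0 : d o = 1) (o1 : ∀ m, Db m → c o m = 1)
    (q : ∀ m, Db m → ∑ i, c i T * c i T * c i m / d i = np m * κ) :
    (∃ z, d z = 1 ∧ c z R = -1) ∨ κ = 2304 / 7920 ∨ κ = 2304 / 5616 := by
  have ω0 : ω ≠ 0 := by rintro rfl; norm_num at hω
  let g : Fin 3 → M3 := ![T, R ^ 2, T * X]
  have hg : ∀ i, Db (g i) := by decide +kernel
  have hR : Db R := by decide +kernel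
  have hR' : Db R⁻¹ := by decide +kernel
  let A : Fin 3 → ι → ℤ := ![(2 : ℤ) • a1 + (4 : ℤ) • a2 + (3 : ℤ) • a3 + a4 -
    (2 : ℤ) • a5, (2 : ℤ) • a5 - a3 + a4, a4 + a5 - a1 - (2 : ℤ) • a2]
  have hA : ∀ i χ, c χ (g i) = A i χ := fun i χ => by
    fin_cases i
    exacts [(V χ).vT, (V χ).vY, (V χ).vS]
  have p1 : ∀ i j, ip (A i) (A j) = nc (g i) (g j) := fun i j => by
    have := or2 _ _ (hg i) (hg j)
    simp only [hA] at this
    exact_mod_cast (ip_cast _ _).trans this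
  have p2 : ∀ i, ip (A i) d = 0 := fun i => by
    have := or1 _ (hg i)
    simp only [hA] at this
    rw [ip_comm]
    exact_mod_cast (ip_cast _ _).trans this
  have p3 : ∀ B : ι → ℤ, ∑ χ, B χ * c χ R = 0 → ∑ χ, B χ * c χ R⁻¹ = 0 → ip B (a3 - a4) = 0 ∧ ip B a1 = 0 :=
    fun B e1 e2 => by
    simp only [fun χ => (V χ).vR, fun χ => (V χ).vR', mul_sub, mul_add, sum_add_distrib, sum_sub_distrib, ← mul_assoc,
      ← sum_mul, ← ip_cast] at e1 e2
    have e3 : (ip B (a3 - a4) : ℂ) = 0 := by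
      linear_combination (exp := 1) (e1 + e2) / 2 + (rfl : (ip B (a3 - a4) : ℂ) = ip B fun i => a3 i - a4 i)
    have e4 : (ip B a1 : ℂ) * ω = 0 := by linear_combination (e1 - e2) / 2
    exact ⟨by exact_mod_cast e3, by simpa [ω0] using e4⟩
  have z1 : ∀ i, nc (g i) R = 0 := by decide +kernel
  have z2 : ∀ i, nc (g i) R⁻¹ = 0 := by decide +kernel
  have p4 : ∀ i, ip (A i) (a3 - a4) = 0 ∧ ip (A i) a1 = 0 := fun i => p3 _
    (by simpa only [hA, z1 i, Nat.cast_zero] using or2 _ _ (hg i) hR)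
    (by simpa only [hA, z2 i, Nat.cast_zero] using or2 _ _ (hg i) hR')
  have key : ∀ (F : ι → ℂ) (c1 c2 c3 : ℂ), (∀ χ, F χ = c1 * ((a3 - a4) χ * (a3 - a4) χ) +
      c2 * ((a3 - a4) χ * a1 χ) + c3 * (a1 χ * a1 χ)) → ∑ χ, F χ = c1 * ip (a3 - a4) (a3 - a4) +
        c2 * ip (a3 - a4) a1 + c3 * ip a1 a1 := fun F c1 c2 c3 e => by
    simp only [ip_cast, mul_sum, ← sum_add_distrib, e]
  have f1 := (key _ 1 0 2 fun χ => by
    rw [(V χ).vR', (V χ).vR, Pi.sub_apply]; linear_combination (-(a1 χ : ℂ) ^ 2) * hω).symm.trans (or2 _ _ hR hR')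
  have f2 := (key _ 1 (2 * ω) (-2) fun χ => by
    rw [(V χ).vR, Pi.sub_apply]; linear_combination (a1 χ : ℂ) ^ 2 * hω).symm.trans (or2 _ _ hR hR)
  have f3 := (key _ 1 (-2 * ω) (-2) fun χ => by
    rw [(V χ).vR', Pi.sub_apply]; linear_combination (a1 χ : ℂ) ^ 2 * hω).symm.trans (or2 _ _ hR' hR')
  rw [show nc R R⁻¹ = 8 by decide +kernel] at f1
  rw [show nc R R = 0 by decide +kernel] at f2
  rw [show nc R⁻¹ R⁻¹ = 0 by decide +kernel] at f3
  push_cast at f1 f2 f3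
  have g1 : ip (a3 - a4) (a3 - a4) = 4 := by
    exact_mod_cast (by linear_combination f1 / 2 + (f2 + f3) / 4 : (ip (a3 - a4) (a3 - a4) : ℂ) = 4)
  have g11 : ip a1 a1 = 2 := by
    exact_mod_cast (by linear_combination f1 / 4 - (f2 + f3) / 8 : (ip a1 a1 : ℂ) = 2)
  have g2 : ip (a3 - a4) a1 = 0 := by
    simpa [ω0] using (by linear_combination (f2 - f3) / 4 : (ip (a3 - a4) a1 : ℂ) * ω = 0)
  have p01 := p2 0
  have p02 := p2 1
  have p03 := p2 2
  have p12 : ip (A 0) (A 1) = 0 := (p1 0 1).trans (by decide +kernel)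
  have p13 : ip (A 0) (A 2) = 0 := (p1 0 2).trans (by decide +kernel)
  have p23 : ip (A 1) (A 2) = 0 := (p1 1 2).trans (by decide +kernel)
  have p11 : ip (A 0) (A 0) = 48 := (p1 0 0).trans (by decide +kernel)
  have p22 : ip (A 1) (A 1) = 8 := (p1 1 1).trans (by decide +kernel)
  have p33 : ip (A 2) (A 2) = 6 := (p1 2 2).trans (by decide +kernel)
  obtain ⟨p04, p05⟩ := p3 d (or1 _ hR) (or1 _ hR')
  obtain ⟨p14, p15⟩ := p4 0
  obtain ⟨p24, p25⟩ := p4 1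
  obtain ⟨p34, p35⟩ := p4 2
  rw [ip_comm] at p04 p05
  have ipd : ∀ a b : ι → ℤ, ip a b = a ⬝ᵥ b := fun _ _ => rfl
  simp only [A, Matrix.cons_val, ipd, add_dotProduct, sub_dotProduct, dotProduct_add, dotProduct_sub,
    smul_dotProduct, dotProduct_smul, smul_eq_mul, dotProduct_comm a1 a2,
    dotProduct_comm a1 a3, dotProduct_comm a1 a4, dotProduct_comm a1 a5, dotProduct_comm a2 a3,
    dotProduct_comm a2 a4, dotProduct_comm a2 a5, dotProduct_comm a4 a3, dotProduct_comm a3 a5,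
    dotProduct_comm a4 a5]
    at p01 p02 p03 p04 p05 p11 p12 p13 p14 p15 p22 p23 p24 p25 p33 p34 p35 g1 g2
  simp only [← ipd] at p01 p02 p03 p04 p05 p11 p12 p13 p14 p15 p22 p23 p24 p25 p33 p34 p35 g1 g2
  have one : ∀ {n : ℤ} {m : M3}, Db m → c o m = n → n = 1 := fun {n m} h e => by
    exact_mod_cast (e.symm.trans (o1 m h) : (n : ℂ) = 1)
  have t0 : a1 o = 0 := by
    simpa [ω0] using (by linear_combination ((V o).vR.symm.trans ((o1 _ hR).trans
      ((o1 _ hR').symm.trans (V o).vR'))) / 2 : (a1 o : ℂ) * ω = 0)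
  have t1 : 2 * a1 o + 4 * a2 o + 3 * a3 o + a4 o - 2 * a5 o = 1 := one (hg 0) (V o).vT
  have t2 : 2 * a5 o - a3 o + a4 o = 1 := one (hg 1) (V o).vY
  have t3 : a4 o + a5 o - a1 o - 2 * a2 o = 1 := one (hg 2) (V o).vS
  have t4 : a3 o - a4 o = 1 := one hR ((V o).vR.trans (by simp [t0]))
  have qT := q T (hg 0)
  have qY := q (R ^ 2) (hg 1)
  have qS := q (T * X) (hg 2)
  have qR := q R hR
  have qR' := q R⁻¹ hR'
  rw [show np T = 12 by decide +kernel] at qT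
  rw [show np (R ^ 2) = 4 by decide +kernel] at qY
  rw [show np (T * X) = 6 by decide +kernel] at qS
  rw [show np R = 0 by decide +kernel] at qR
  rw [show np R⁻¹ = 0 by decide +kernel] at qR'
  simp only [fun χ => (V χ).vT, fun χ => (V χ).vY, fun χ => (V χ).vS, fun χ => (V χ).vR, fun χ => (V χ).vR',
    Nat.cast_ofNat] at qT qY qS qR qR'
  have cast : ∀ (a : ι → ℤ) (n : ℚ) (c1 c2 c3 c4 : ℂ), 12 * c1 + 4 * c2 + 6 * c3 = n →
      (∀ χ, (a χ : ℂ) = c1 * (2 * a1 χ + 4 * a2 χ + 3 * a3 χ + a4 χ - 2 * a5 χ : ℤ) +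
        c2 * (2 * a5 χ - a3 χ + a4 χ : ℤ) + c3 * (a4 χ + a5 χ - a1 χ - 2 * a2 χ : ℤ) +
        2 * c4 * (a3 χ - a4 χ : ℤ)) →
      ∑ χ, ((2 * a1 χ + 4 * a2 χ + 3 * a3 χ + a4 χ - 2 * a5 χ : ℤ) : ℚ) ^ 2 * a χ / d χ =
        n * κ := fun a n c1 c2 c3 c4 e1 e2 => by
    apply Rat.cast_injective (α := ℂ)
    simp only [Rat.cast_sum, Rat.cast_div, Rat.cast_mul, Rat.cast_pow, Rat.cast_intCast, ← e1]
    refine Eq.trans ?_ (congr(c1 * $qT + c2 * $qY + c3 * $qS + c4 * $qR + c4 * $qR').trans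
      (by push_cast; ring))
    simp only [mul_sum, ← sum_add_distrib]
    exact sum_congr rfl fun χ _ => by rw [e2]; ring
  obtain ⟨z, z0, z1, z3, z4⟩ | e | ⟨e, -⟩ :=
    gram (T := fun χ => 2 * a1 χ + 4 * a2 χ + 3 * a3 χ + a4 χ - 2 * a5 χ) (a2 := a2) (a3 := a3)
      (a4 := a4) (a5 := a5) hκ hd o0 t0 (by omega)
      (by omega) (by omega) (by omega) g11 (by omega) (by omega) (by omega) (by omega) (by omega)
      (by omega) (by omega) (by omega) (by omega) (by omega) (by omega) (by omega) (by omega)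
      (by omega) p05 (by omega) (by omega) (by omega) (by omega) (fun _ => rfl) (fun χ => (V χ).d8)
      (cast a3 4 (1 / 6) 0 (1 / 3) (1 / 4) (by norm_num) fun χ => by push_cast; ring)
      (cast a4 4 (1 / 6) 0 (1 / 3) (-1 / 4) (by norm_num) fun χ => by push_cast; ring)
      (cast a5 2 0 (1 / 2) 0 (1 / 4) (by norm_num) fun χ => by push_cast; ring)
  · exact .inl ⟨z, z0, by rw [(V z).vR, z1, z3, z4]; norm_num⟩
  · exact .inr (.inl e)
  · exact .inr (.inr e)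

end Cfsg.Agent.Ov.PX
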