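import Cfsg.Agent.H19.W1
import Cfsg.Agent.S0915
import Cfsg.Agent.H6.Height
import Cfsg.Agent.H6.Kernel
import Cfsg.Agent.H5.IndHom
import Cfsg.Agent.H4.Burnside

/-! The principal block of a group whose involution centralizer is an odd extension of `GL₂(3)`. -/

set_option autoImplicit false
set_option linter.style.haveILetI false

namespace Cfsg.Agent.Ov.PX

open Cfsg Cfsg.Agent.H4 Cfsg.Agent.H5 Cfsg.Agent.H6 Cfsg.Agent.H19 M3 Subgroup MonoidAlgebra

variable {M : Ideal AlgInt} [M.IsMaximal]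

theorem one_block (hM : IsPModular 2 M) (φ : IrrCharacter M3) : SameBlock M (fun _ : M3 => (1 : ℂ)) (φ : M3 → ℂ) := by
  refine S0915.result 2 M hM (H9.isPSolvable_of_isSolvable (burnside_pq (p := 2) (q := 3) (a := 4) (b := 1)
    Nat.prime_two Nat.prime_three card_eq)) (eq_bot_iff.2 fun m hm => by_contra fun h1 => ?_) (irrOne M3) φ
  have hT : T ∈ pPrimeCore 2 M3 := by
    obtain ⟨a, e | ⟨k, e⟩⟩ := ncl m h1
    · exact e ▸ hm
    · exact e ▸ pow_mem (mul_mem hm (Normal.conj_mem inferInstance _ hm a)) _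
  refine H1.not_dvd_card_pPrimeCore 2 M3 ?_
  have := (pPrimeCore 2 M3).orderOf_dvd_natCard hT
  rwa [show orderOf T = 2 from ord (by decide) (by decide +kernel)] at this

theorem bp (hM : IsPModular 2 M) {K : Type*} [Group K] [Fintype K] {π : K →* M3} (sur : Function.Surjective π)
    (odd : Odd (Nat.card π.ker)) (ρ : K → ℂ) (k : K) :
    indHom π ρ (π k) = blockPart (principalBlock M K) ρ k := by
  classical
  rw [(indHom_isClassFunction π ρ).apply_eq_sum, blockPart_eq_sum, ← Finset.sum_filter]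
  refine Finset.sum_bij (fun φ _ => H7.irrComp π sur φ) (fun φ _ => ?_) (fun φ _ φ' _ h => ?_) (fun ξ hξ => ?_)
    fun φ _ => ?_
  · exact Finset.mem_filter.2 ⟨Finset.mem_univ _, sameBlock_comp π sur (one_block hM φ)⟩
  · ext m
    obtain ⟨x, rfl⟩ := sur m
    exact congrFun (congrArg Subtype.val h) x
  · obtain ⟨φ, h1, h2⟩ := exists_irr_inflate π sur ξ.2 fun x hx => apply_of_mem_charKer
      (le_charKer_of_mem_principal hM (Odd.not_two_dvd_nat odd) (Finset.mem_filter.1 hξ).2 hx)
    exact ⟨⟨φ, h1⟩, Finset.mem_univ _, Subtype.ext h2.symm⟩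
  · rw [inner_indHom_left _ _ φ.2.isClassFunction]; rfl

theorem dich (hM : IsPModular 2 M) {G : Type*} [Group G] [Finite G] {t : G} (ht : orderOf t = 2)
    [Fintype (centralizer ({t} : Set G))] {π : centralizer ({t} : Set G) →* M3} (sur : Function.Surjective π)
    (odd : Odd (Nat.card π.ker)) (χ : IrrCharacter G) {k : centralizer ({t} : Set G)} (hk : t ∈ zpowers (k : G)) :
    (χ ∈ principalBlock M G → indHom π (fun h => (χ : G → ℂ) h) (π k) = (χ : G → ℂ) k) ∧
      (χ ∉ principalBlock M G → indHom π (fun h => (χ : G → ℂ) h) (π k) = 0) := by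
  classical
  obtain ⟨z, hz⟩ := exists_isPPart hM.1 (k : G)
  have hC : centralizer ({z} : Set G) ≤ centralizer {t} := fun g hg => by
    obtain ⟨y, e, hc, -, hy⟩ := hz
    obtain ⟨a, ha⟩ := (mem_powers_iff_mem_zpowers.2 hk :)
    obtain ⟨b, hb⟩ := Nat.odd_iff.2 (Nat.two_dvd_ne_zero.1 hy)
    have t2 : t ^ 2 = 1 := ht ▸ pow_orderOf_eq_one t
    have : t = z ^ (a * orderOf y) := by
      have h1 : (k : G) ^ a = t := ha
      calc t = t ^ orderOf y := by rw [hb, pow_succ, pow_mul, t2, one_pow, one_mul]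
        _ = _ := by rw [← h1, ← pow_mul, ← e, hc.mul_pow, mul_comm a, pow_mul y, pow_orderOf_eq_one, one_pow, mul_one]
    rw [mem_centralizer_singleton_iff] at hg ⊢
    rw [this]
    exact (Commute.pow_right hg _).eq
  have hcl : IsClassFunction (centralizer ({t} : Set G)) fun h => (χ : G → ℂ) h :=
    χ.2.isClassFunction.comp (centralizer ({t} : Set G)).subtype
  have key : ∀ b B, IsInducedBlock M (centralizer ({t} : Set G)) b B → χ ∉ B →
      blockPart b (fun h => (χ : G → ℂ) h) k = 0 := fun b B h1 h2 => by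
    have := second_main_idem hM h1 hz hC h2
    rwa [← incl_single, ← map_mul, chiL_incl, ← blockPart_eq_chiL _ hcl] at this
  have df : ∀ {b}, IsPBlock M b → InducedBlockDefined M (centralizer ({t} : Set G)) b := fun hb =>
    inducedBlockDefined_centralizer_elt hM ⟨1, ht⟩ hb
  rw [bp hM sur odd]
  refine ⟨fun h => ?_, key _ _ ((third_main hM (df isPBlock_principal)).2 rfl)⟩
  have := congrFun (sum_blockPart (M := M) hcl) k
  rw [Finset.sum_apply, Finset.sum_eq_single_of_mem _ (mem_blocks.2 isPBlock_principal)] at this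
  · exact this
  intro b hb hne
  obtain ⟨B, hB⟩ := df (mem_blocks.1 hb)
  refine key b B hB fun h2 => hne ((third_main hM ⟨B, hB⟩).1 ?_)
  rwa [← block_eq_of_mem hB.2.1 isPBlock_principal h2 h]

end Cfsg.Agent.Ov.PX
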