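import Cfsg.Agent.Ov.A
import Cfsg.Agent.Ov.X1
import Cfsg.Agent.Ov.X2
import Cfsg.Agent.H6.InvCount

/-! A group with one class of involutions, no subgroup of index two, and involution centralizer an odd extension of
`GL₂(3)`: the number of involutions is divisible by three. -/

set_option autoImplicit false
set_option linter.style.haveILetI false

namespace Cfsg.Agent.Ov

open Cfsg Cfsg.Agent.H4 Cfsg.Agent.H5 Cfsg.Agent.H6 Cfsg.Agent.H19 M3 Subgroup Finset
open scoped ComplexConjugate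

namespace PX

theorem Db_conj : ∀ x m : M3, Db m → Db (x * m * x⁻¹) := by decide +kernel

theorem Db_inv : ∀ m : M3, Db m → Db m⁻¹ := by decide +kernel

theorem Rf_of : ∀ u v : M3, u * u = 1 → u ≠ 1 → v * v = 1 → v ≠ 1 → Db (u * v)⁻¹ → u ≠ T ∧ v ≠ T := by decide +kernel

theorem np_sum (m : M3) : ∑ x : M3, ∑ u : M3, (if Rf u then ∑ v : M3,
    if Rf v then (if (u * v)⁻¹ = x * m * x⁻¹ then (1 : ℂ) else 0) else 0 else 0) = 48 * np m := by
  have h1 : ∀ m' : M3, ∑ u : M3, (if Rf u then ∑ v : M3,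
      if Rf v then (if (u * v)⁻¹ = m' then (1 : ℂ) else 0) else 0 else 0) = np m' := fun m' => by
    rw [np, card_filter, Nat.cast_sum]
    refine sum_congr rfl fun u _ => ?_
    rw [sum_eq_single (m' * u)⁻¹ (fun v _ hv => by
      rw [if_neg (show ¬ (u * v)⁻¹ = m' from fun e => hv (by rw [← e]; group)), ite_self]) (by simp)]
    by_cases a : Rf u <;> by_cases b : Rf (m' * u)⁻¹ <;> simp [a, b]
  have h2 : ∀ x : M3, np (x * m * x⁻¹) = np m := fun x => (card_bijective (MulAut.conj x) (MulAut.conj x).bijective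
    fun u => by
      have : ∀ x u : M3, Rf u ↔ Rf (x * u * x⁻¹) := by decide +kernel
      simp only [mem_filter, mem_univ, true_and, MulAut.conj_apply, ← this]
      rw [this x (m * u)⁻¹]
      congr! 2
      group).symm
  simp only [h1, h2, sum_const, card_univ, ← Nat.card_eq_fintype_card, card_eq, nsmul_eq_mul, Nat.cast_ofNat]

variable {K : Type*} [Group K] [Fintype K] {π : K →* M3}

theorem loc {θ θ' : K → ℂ} (h : ∀ k, Db (π k) → θ k = θ' k) {m : M3} (hm : Db m) : indHom π θ m = indHom π θ' m := by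
  rw [indHom_apply, indHom_apply]
  congr 1
  refine sum_congr rfl fun x _ => sum_congr rfl fun k _ => ?_
  split_ifs with e
  exacts [h k (e ▸ Db_conj x m hm), rfl]

theorem lin {ι : Type*} [Fintype ι] (a : ι → ℂ) (θ : ι → K → ℂ) (m : M3) :
    ∑ i, a i * indHom π (θ i) m = indHom π (fun k => ∑ i, a i * θ i k) m := by
  rw [show (fun k => ∑ i, a i * θ i k) = ∑ i, a i • θ i by ext k; simp [Finset.sum_apply], indHom_sum, Finset.sum_apply]
  simp only [indHom_smul, Pi.smul_apply, smul_eq_mul]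

theorem pw (odd : Odd (Nat.card π.ker)) {k : K} (h : π k = 1) : k ^ Nat.card π.ker = 1 :=
  congrArg Subtype.val (pow_card_eq_one' (x := (⟨k, h⟩ : π.ker)))

theorem sq1 (odd : Odd (Nat.card π.ker)) {k : K} (h : π k = 1) (h2 : k * k = 1) : k = 1 := by
  obtain ⟨n, hn⟩ := odd
  have := pw ⟨n, hn⟩ h
  rwa [hn, pow_succ, pow_mul, pow_two, h2, one_pow, one_mul] at this

open Classical in
theorem fib (sur : Function.Surjective π) (odd : Odd (Nat.card π.ker)) : ∃ ν : ℕ, 0 < ν ∧ ∀ F : M3 → ℂ,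
    ∑ a : K, (if a * a = 1 ∧ Rf (π a) then F (π a) else 0) = ν * ∑ u, if Rf u then F u else 0 := by
  refine ⟨(univ.filter fun a : K => a * a = 1 ∧ π a = S).card, ?_, fun F => ?_⟩
  · obtain ⟨s, hs⟩ := sur S
    have h2 : S * S = 1 := by decide +kernel
    refine card_pos.2 ⟨s ^ Nat.card π.ker, mem_filter.2 ⟨mem_univ _, ?_, ?_⟩⟩
    · rw [← (Commute.refl s).mul_pow, pw odd (by rw [map_mul, hs, h2])]
    · obtain ⟨n, hn⟩ := odd
      rw [map_pow, hs, hn, pow_succ, pow_mul, pow_two, h2, one_pow, one_mul]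
  rw [← sum_fiberwise univ π, mul_sum]
  refine sum_congr rfl fun u _ => ?_
  rw [sum_congr rfl (g := fun a => if a * a = 1 ∧ Rf u then F u else 0) fun a ha => by rw [(mem_filter.1 ha).2]]
  split_ifs with h
  · obtain ⟨n, rfl⟩ := invol_conj u h.1 h.2.1 h.2.2
    obtain ⟨g, rfl⟩ := sur n
    simp only [h, and_true]
    rw [← sum_filter, sum_const, nsmul_eq_mul, filter_filter]
    congr 2
    refine (card_bijective (MulAut.conj g) (MulAut.conj g).bijective fun a => ?_).symm
    simp [and_comm, mul_assoc]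
    intro _
    rw [← mul_assoc, ← mul_assoc, mul_inv_eq_one, mul_assoc, mul_eq_left]
  · simp [h]

theorem no_lin {G : Type*} [Group G] [Finite G] (no2 : ∀ H : Subgroup G, H.index ≠ 2) (l : G →* ℂˣ) (r : G) :
    (l r : ℂ) ≠ -1 := fun e => by
  haveI : Finite l.range := Finite.of_surjective _ l.rangeRestrict_surjective
  haveI := isCyclic_of_injective_ringHom ((Units.coeHom ℂ).comp l.range.subtype)
    (Units.val_injective.comp Subtype.val_injective)
  refine no2 ((powMonoidHom 2 : l.range →* l.range).range.comap l.rangeRestrict) ?_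
  rw [index_comap_of_surjective _ l.rangeRestrict_surjective, IsCyclic.index_powMonoidHom_range]
  refine Nat.gcd_eq_right ?_
  have : orderOf (l r) = 2 := orderOf_eq_prime (Units.ext (by simp [e])) fun h => by
    rw [h] at e; norm_num at e
  exact this ▸ l.range.orderOf_dvd_natCard ⟨r, rfl⟩

end PX

open PX

theorem ch {G : Type*} [Group G] [Finite G] {t : G} (ht : Iv t) (π : centralizer ({t} : Set G) →* M3)
    (sur : Function.Surjective π) (odd : Odd (Nat.card π.ker)) (hall : ∀ v, Iv v → IsConj t v)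
    (no2 : ∀ H : Subgroup G, H.index ≠ 2) : 3 ∣ (centralizer ({t} : Set G)).index := by
  classical
  haveI := Fintype.ofFinite G
  haveI := Fintype.ofFinite (centralizer ({t} : Set G))
  obtain ⟨M, hM⟩ := exists_isPModular Nat.prime_two
  haveI := hM.2.1
  have o2 : ∀ {v : G}, Iv v → orderOf v = 2 := fun h => orderOf_eq_prime (by rw [pow_two, h.1]) h.2
  have ivc : ∀ {v : G}, IsConj t v → Iv v := fun h => by
    obtain ⟨c, rfl⟩ := isConj_iff.1 h
    exact ⟨by rw [conj_mul, ht.1]; simp, by simpa using ht.2⟩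
  let t' : centralizer ({t} : Set G) := ⟨t, mem_centralizer_singleton_iff.2 rfl⟩
  have ct : ∀ k : centralizer ({t} : Set G), k * t' = t' * k := fun k => Subtype.ext (mem_centralizer_singleton_iff.1 k.2)
  have t2 : t' * t' = 1 := Subtype.ext ht.1
  have πt : π t' = T := (central _ fun n => by
    obtain ⟨k, rfl⟩ := sur n
    rw [← map_mul, ct, map_mul]).resolve_left fun h => ht.2 (congrArg Subtype.val (sq1 odd h t2))
  have hz : ∀ k : centralizer ({t} : Set G), Db (π k) → t ∈ zpowers (k : G) := fun k ⟨j, hj⟩ => by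
    have h1 := pw odd (k := k ^ (j : ℕ) * t') (by rw [map_mul, map_pow, hj, πt]; decide +kernel)
    obtain ⟨n, hn⟩ := odd
    rw [(show Commute _ t' from ct _).mul_pow, hn, pow_succ t', pow_mul, pow_two, t2, one_pow, one_mul, ← pow_mul,
      mul_eq_one_iff_eq_inv, inv_eq_of_mul_eq_one_left t2] at h1
    exact ⟨_, (zpow_natCast _ _).trans (congrArg Subtype.val h1)⟩
  have cz : ∀ (y : G) (k h : centralizer ({t} : Set G)), Db (π k) → Db (π h) → y * (k : G)⁻¹ * y⁻¹ = h →
      y ∈ centralizer ({t} : Set G) := fun y k h hk hh hy => by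
    rw [mem_centralizer_singleton_iff, ← mul_inv_eq_iff_eq_mul]
    refine eq_of_mem_zpowers_of_orderOf_two ?_ (hz h hh) (o2 (ivc (isConj_iff.2 ⟨y, rfl⟩))) (o2 ht)
    rw [← hy, mem_zpowers_conj, zpowers_inv]
    simpa [mul_assoc] using hz k hk
  let B := principalBlock M G
  let c : IrrCharacter G → M3 → ℂ := fun χ => indHom π fun h => (χ : G → ℂ) h
  have c1 : ∀ χ ∈ B, ∀ k, Db (π k) → c χ (π k) = (χ : G → ℂ) k := fun χ h k hk =>
    (dich hM (o2 ht) sur odd χ (hz k hk)).1 h
  have c0 : ∀ χ ∉ B, ∀ m, Db m → c χ m = 0 := fun χ h m hm => by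
    obtain ⟨k, rfl⟩ := sur m
    exact (dich hM (o2 ht) sur odd χ (hz k hm)).2 h
  obtain ⟨ζ, hζ⟩ := IsAlgClosed.exists_pow_nat_eq (-1 : ℂ) (n := 4) (by decide)
  let d : IrrCharacter G → ℤ := fun χ => if χ ∈ B then charDegree (χ : G → ℂ) else 8
  have d1 : ∀ χ ∈ B, (d χ : ℂ) = (χ : G → ℂ) 1 := fun χ h => by
    simp only [d, if_pos h, Int.cast_natCast, χ.2.isCharacter.charDegree_cast]
  obtain ⟨r, r1, r8⟩ : ∃ r, π r = R ∧ r ^ 8 = 1 := by
    obtain ⟨r, hr⟩ := sur R
    have h8 : R ^ 8 = 1 := by decide +kernel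
    refine ⟨r ^ (Nat.card π.ker * Nat.card π.ker), ?_, ?_⟩
    · rw [map_pow, hr, pow_eq_pow_mod _ h8]
      have := Nat.odd_iff.1 odd
      rcases (by omega : Nat.card π.ker % 8 = 1 ∨ Nat.card π.ker % 8 = 3 ∨ Nat.card π.ker % 8 = 5 ∨
        Nat.card π.ker % 8 = 7) with h | h | h | h <;> rw [Nat.mul_mod, h] <;> exact pow_one R
    · rw [← pow_mul, mul_comm, pow_mul, pow_mul, pw odd (k := r ^ 8) (by rw [map_pow, hr, h8]), one_pow]
  have hV : ∀ χ, ∃ a1 a2 a3 a4 a5, Vl (ζ + ζ ^ 3) (c χ) a1 a2 a3 a4 a5 (d χ) := fun χ => by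
    by_cases h : χ ∈ B
    · have hc : IsCharacter M3 (c χ) := isCharacter_indHom π (χ.2.isCharacter.comp (centralizer {t}).subtype)
      obtain ⟨a1, a2, a3, a4, a5, x, V⟩ := exists_WV (MonoidHom.id M3) hζ hc
      obtain ⟨m, e⟩ := eig_mult χ.2.isCharacter (g := (r : G)) (congrArg Subtype.val r8) (one_pow 8)
      obtain ⟨m', e'⟩ := eig_mult hc (g := R) (by decide +kernel) (one_pow 8)
      rw [sum_range_succ'] at e e'
      rw [sum_congr rfl (g := fun j => c χ (R ^ (j + 1)) * 1 ^ (j + 1)) fun j hj => by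
        rw [← r1, ← map_pow, c1 χ h _ (by
          rw [map_pow, r1]; exact (by decide +kernel : ∀ j : Fin 7, Db (R ^ (j.1 + 1))) ⟨j, mem_range.1 hj⟩)]; rfl,
        pow_zero, ← d1 χ h] at e
      rw [pow_zero, ← hc.charDegree_cast] at e'
      have e2 : d χ - charDegree (c χ) = 8 * (m - m') := by
        exact_mod_cast (by push_cast at e e' ⊢; linear_combination e - e' :
          ((d χ : ℤ) : ℂ) - (charDegree (c χ) : ℤ) = 8 * (m - m'))
      have := V.d8
      exact ⟨a1, a2, a3, a4, a5, V.vT, V.vY, V.vS, V.vR, V.vR', by omega⟩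
    · refine ⟨0, 0, 0, 0, 0, ?_, ?_, ?_, ?_, ?_, by simp [d, h]⟩ <;> rw [c0 χ h _ (by decide +kernel)] <;> simp
  choose a1 a2 a3 a4 a5 V using hV
  obtain ⟨ν, ν0, hν⟩ := fib sur odd
  have i0 := (centralizer ({t} : Set G)).index_ne_zero_of_finite
  have fin : ∀ n : ℕ, (48 * ν ^ 2 / (centralizer ({t} : Set G)).index : ℚ) = 2304 / (48 * (3 * n)) → n ≠ 0 →
      3 ∣ (centralizer ({t} : Set G)).index := fun n e hn => ⟨n * ν ^ 2, by
    field_simp at e
    exact_mod_cast (by linear_combination -e / 2304 : ((centralizer ({t} : Set G)).index : ℚ) = 3 * (n * ν ^ 2))⟩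
  refine (abs (c := c) (κ := 48 * ν ^ 2 / (centralizer ({t} : Set G)).index)
    (by linear_combination (ζ ^ 2 + 2) * hζ) (irrOne G) (by positivity) (fun χ => by
      simp only [d]; split_ifs; exacts [by exact_mod_cast χ.2.charDegree_pos, by norm_num]) V
    (fun m m' hm hm' => ?_) (fun m hm => ?_) (by
      have := d1 _ irrOne_mem_principal
      rw [irrOne_apply] at this
      exact_mod_cast this) (fun m hm => by
      obtain ⟨k, rfl⟩ := sur m
      exact c1 _ irrOne_mem_principal k hm) fun m hm => ?_).elim (fun ⟨z, z1, z2⟩ => ?_) fun e => e.elim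
    (fun e => fin 55 (e.trans (by norm_num)) (by norm_num)) fun e => fin 39 (e.trans (by norm_num)) (by norm_num)
  rotate_right
  · have hB : z ∈ B := by_contra fun h => by simp [d, h] at z1
    obtain ⟨l, hl⟩ := z.2.isCharacter.exists_linear (by rw [← d1 z hB, z1, Int.cast_one])
    rw [← r1, c1 z hB r (by rw [r1]; decide +kernel), hl] at z2
    exact absurd z2 (no_lin no2 l r)
  · obtain ⟨k, rfl⟩ := sur m'
    rw [sum_congr rfl (g := fun χ : IrrCharacter G => (χ : G → ℂ) k * c χ m) fun χ _ => by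
      by_cases h : χ ∈ B
      · rw [c1 χ h k hm', mul_comm]
      · rw [c0 χ h m hm, zero_mul, mul_zero], lin,
      loc (θ' := ∑ ξ : IrrCharacter (centralizer ({t} : Set G)), (ξ.1 k) • ξ.1) (fun h hh => ?_) hm,
      (indHom_isClassFunction _ _).apply_eq_sum]
    · rw [sum_congr rfl (g := fun φ : IrrCharacter M3 => φ.1 m * conj (φ.1 (π k)⁻¹)) fun φ _ => by
        rw [inner_indHom_left _ _ φ.2.isClassFunction, φ.2.isCharacter.apply_inv, Complex.conj_conj, mul_comm]
        exact congrArg _ (classInner_sum_irr_left _ (H7.irrComp π sur φ)), sum_irr_mul_conj, nc, Nat.card_eq_fintype_card,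
        Fintype.card_subtype]
    · have e1 := sum_irr_mul_conj (h : G) (k : G)⁻¹
      have e2 := sum_irr_mul_conj h k⁻¹
      simp only [fun χ : IrrCharacter G => χ.2.isCharacter.apply_inv, Complex.conj_conj] at e1
      simp only [fun χ : IrrCharacter (centralizer ({t} : Set G)) => χ.2.isCharacter.apply_inv, Complex.conj_conj] at e2
      simp only [Finset.sum_apply, Pi.smul_apply, smul_eq_mul, mul_comm (_ : ℂ)] at e1 e2 ⊢
      rw [e1, e2]
      refine congrArg _ (Eq.symm (Nat.card_congr (Equiv.ofBijective (fun y => ⟨y.1.1, congrArg Subtype.val y.2⟩) ?_)))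
      exact ⟨fun a b e => Subtype.ext (Subtype.ext (congrArg Subtype.val e :)),
        fun ⟨y, hy⟩ => ⟨⟨⟨y, cz y k h hm' hh hy⟩, Subtype.ext hy⟩, rfl⟩⟩
  · rw [sum_congr rfl (g := fun χ : IrrCharacter G => (χ : G → ℂ) 1 * c χ m) fun χ _ => by
      by_cases h : χ ∈ B
      · rw [d1 χ h]
      · rw [c0 χ h m hm, mul_zero, mul_zero], lin, loc (θ' := 0) (fun h hh => sum_irr_degree_mul fun e => ?_) hm,
      indHom_zero, Pi.zero_apply]
    rw [show h = 1 from Subtype.ext e, map_one] at hh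
    exact absurd hh (by decide +kernel)
  · rw [sum_congr rfl (g := fun χ : IrrCharacter G => χ.1 t * χ.1 t / χ.1 1 * c χ m) fun χ _ => by
      by_cases h : χ ∈ B
      · rw [d1 χ h, ← πt, c1 χ h t' (by rw [πt]; decide +kernel)]; ring
      · simp [c0 χ h m hm], lin, loc (θ' := fun h => Nat.card G / ((centralizer ({t} : Set G)).index : ℂ) ^ 2 *
        ∑ a : centralizer ({t} : Set G), if a * a = 1 ∧ Rf (π a) then ∑ b : centralizer ({t} : Set G),
          if b * b = 1 ∧ Rf (π b) then (if (a * b)⁻¹ = h then 1 else 0) else 0 else 0) (fun h hh => ?_) hm, indHom_apply]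
    · have e1 : ∀ m' : M3, ∑ h : centralizer ({t} : Set G), (if π h = m' then
          ∑ a : centralizer ({t} : Set G), if a * a = 1 ∧ Rf (π a) then ∑ b : centralizer ({t} : Set G),
          if b * b = 1 ∧ Rf (π b) then (if (a * b)⁻¹ = h then (1 : ℂ) else 0) else 0 else 0 else 0) = ν * (ν *
          ∑ u : M3, (if Rf u then ∑ v : M3, if Rf v then (if (u * v)⁻¹ = m' then (1 : ℂ) else 0) else 0 else 0)) := fun m' => by
        rw [mul_sum, sum_congr rfl fun u _ => show (ν : ℂ) * (if Rf u then _ else 0) = if Rf u then _ else 0 by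
          rw [mul_ite, mul_zero, ← hν fun v => if (u * v)⁻¹ = m' then (1 : ℂ) else 0], ← hν]
        simp only [← ite_and, ite_sum_zero]
        rw [sum_comm]
        refine sum_congr rfl fun a _ => ?_
        rw [sum_comm]
        refine sum_congr rfl fun b _ => ?_
        rw [sum_eq_single (a * b)⁻¹ (fun h _ hh => by simp [Ne.symm hh, -mul_inv_rev]) (by simp)]
        simp only [map_inv, map_mul, and_true]
        split_ifs <;> first | rfl | tauto
      have e4 := sum_congr rfl fun x (_ : x ∈ univ) => e1 (x * m * x⁻¹)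
      simp only [← mul_ite_zero, ← mul_sum, np_sum] at e4 ⊢
      have e2 := H5.card_mul_index_C (centralizer ({t} : Set G))
      have e3 := card_ne_zero_C (centralizer ({t} : Set G))
      push_cast
      rw [← e2]
      field_simp
      convert e4.trans (show _ = (np m : ℂ) * 48 * ν ^ 2 by ring)
    · have e1 := card_class_mul_eq t t (h : G)⁻¹
      simp only [fun χ : IrrCharacter G => χ.2.isCharacter.apply_inv, Complex.conj_conj] at e1
      have e3 := card_ne_zero_C G
      have e4 := index_ne_zero_C (centralizer ({t} : Set G))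
      have iv : ∀ a : centralizer ({t} : Set G), a * a = 1 ∧ Rf (π a) → IsConj t a := fun a ha =>
        hall _ ⟨congrArg Subtype.val ha.1, fun e => ha.2.2.1 (by rw [show a = 1 from Subtype.ext e, map_one])⟩
      rw [← Nat.card_congr (Equiv.ofBijective (fun p : {p : centralizer ({t} : Set G) × centralizer ({t} : Set G) //
          (p.1 * p.1 = 1 ∧ Rf (π p.1)) ∧ (p.2 * p.2 = 1 ∧ Rf (π p.2)) ∧ (p.1 * p.2)⁻¹ = h} =>
          (⟨(p.1.1, p.1.2), iv _ p.2.1, iv _ p.2.2.1, inv_eq_iff_eq_inv.1 (congrArg Subtype.val p.2.2.2 :)⟩ :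
            {p : G × G // IsConj t p.1 ∧ IsConj t p.2 ∧ p.1 * p.2 = (h : G)⁻¹})) ⟨fun p q e => ?_, fun ⟨⟨a, b⟩, ha, hb, e⟩ => ?_⟩),
        Nat.card_eq_fintype_card, Fintype.card_subtype, card_filter, Nat.cast_sum, Fintype.sum_prod_type] at e1
      · simp only [div_mul_eq_mul_div (_ * _ : ℂ), ← ite_and, ite_sum_zero]
        simp only [Nat.cast_ite, Nat.cast_one, Nat.cast_zero] at e1
        rw [e1]
        field_simp
      · exact Subtype.ext (Prod.ext (Subtype.ext (congrArg (·.1.1) e)) (Subtype.ext (congrArg (·.1.2) e)))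
      · have a2 := (ivc ha).1
        have b2 := (ivc hb).1
        have e' : (h : G) = (a * b)⁻¹ := by rw [show a * b = _ from e, inv_inv]
        let a' : centralizer ({t} : Set G) := ⟨a, cz a h h hh hh (by
          rw [e', inv_inv, ← mul_assoc, a2, one_mul, mul_inv_rev, inv_eq_of_mul_eq_one_left b2])⟩
        let b' : centralizer ({t} : Set G) := ⟨b, cz b h h hh hh (by
          rw [e', inv_inv, mul_assoc, mul_inv_cancel_right, mul_inv_rev, inv_eq_of_mul_eq_one_left b2,
            inv_eq_of_mul_eq_one_left a2])⟩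
        have a3 : a' * a' = 1 := Subtype.ext a2
        have b3 : b' * b' = 1 := Subtype.ext b2
        have e2 : (a' * b')⁻¹ = h := Subtype.ext e'.symm
        have a4 : π a' * π a' = 1 := by rw [← map_mul, a3, map_one]
        have b4 : π b' * π b' = 1 := by rw [← map_mul, b3, map_one]
        have a5 : π a' ≠ 1 := fun h => (ivc ha).2 (congrArg Subtype.val (sq1 odd h a3))
        have b5 : π b' ≠ 1 := fun h => (ivc hb).2 (congrArg Subtype.val (sq1 odd h b3))
        have := Rf_of _ _ a4 a5 b4 b5 (by rwa [← map_mul, ← map_inv, e2])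
        exact ⟨⟨(a', b'), ⟨a3, a4, a5, this.1⟩, ⟨b3, b4, b5, this.2⟩, e2⟩, rfl⟩

end Cfsg.Agent.Ov
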