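import Cfsg.Agent.Ov.Y2

/-! Involution centralizers with quotient `GL₂(3)`: the inductive step. -/

set_option autoImplicit false
set_option linter.style.haveILetI false

namespace Cfsg.Agent.Ov

open Subgroup H19 H19.M3 Function

namespace PY

theorem zc {G : Type*} [Group G] {P : Subgroup G} {n z : G} (hn : n ∈ normalizer (P : Set G))
    (hz : z ∈ P ⊓ centralizer (P : Set G)) : n * z * n⁻¹ ∈ P ⊓ centralizer (P : Set G) :=
  ⟨(mem_normalizer_iff.1 hn z).1 hz.1, fun p hp => by
    rw [show p = n * (n⁻¹ * p * n) * n⁻¹ by group, conj_mul, conj_mul, hz.2 _ ((mem_normalizer_iff''.1 hn p).1 hp)]⟩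

variable {G : Type*} [Group G] [Finite G] {t : G} (ht : Iv t) (π : centralizer {t} →* M3) (sur : Surjective π)
  (odd : Odd (Nat.card π.ker)) {u : centralizer {t}} (hu : Iv (u : G)) (e : π u = S)
include ht sur odd hu e

omit [Finite G] hu in
theorem net : (u : G) ≠ t := fun h => absurd ((e.symm.trans (congrArg π (Subtype.ext h))).trans (pT ht π sur odd))
  (by decide +kernel)

omit ht in
theorem syl : ∃ P : Subgroup G, H1.IsSylowIn 3 P (centralizer {t}) ∧ (u : G) ∈ normalizer (P : Set G) ∧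
    ∃ x : centralizer {t}, (x : G) ∈ P ∧ π x = X := by
  haveI : Fact (Nat.Prime 3) := ⟨Nat.prime_three⟩
  have c3 : Nat.card (zpowers X) = 3 := by rw [Nat.card_zpowers, oX]
  have o2 : orderOf u = 2 := orderOf_eq_prime (by rw [sq]; exact Subtype.ext hu.1) fun h => hu.2 (congrArg Subtype.val h)
  obtain ⟨P, hP, hn⟩ := H1.exists_invariant_isSylowIn 3 (A := zpowers u) (K := (zpowers X).comap π)
    (zpowers_le.2 (le_normalizer_comap π (show π u ∈ normalizer _ from mem_normalizer_fintype fun m hm => by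
      rw [e]
      obtain ⟨k, rfl⟩ := mem_zpowers_iff.1 hm
      rw [← conj_zpow, show S * X * S⁻¹ = X⁻¹ by decide +kernel]
      exact zpow_mem (inv_mem (mem_zpowers _)) k)))
    (by
      rw [Nat.card_zpowers, o2, Nat.coprime_two_left]
      refine H11.odd_card_iff_no_invol.2 fun v hv h => ?_
      have s := H11.mul_self_of_orderOf_two h
      have : π v * π v = 1 := by rw [← map_mul, s, map_one]
      rcases zX _ hv with f | f | f
      · have := od π odd f
        rw [orderOf_coe, h] at this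
        exact absurd this (by decide)
      · exact absurd (f ▸ this) (by decide +kernel)
      · exact absurd (f.symm.trans this) (by decide +kernel))
    (.inl inferInstance)
  have h1 := hP.map π
  rw [map_comap_eq_self_of_surjective sur] at h1
  obtain ⟨⟨m, hm⟩, n⟩ := ne_bot_iff_exists_ne_one.1 (h1.ne_bot (by rw [c3]))
  have hX : X ∈ P.map π := by
    rcases zX _ (h1.le hm) with f | f | f
    exacts [absurd (Subtype.ext f) n, f ▸ hm, f ▸ mul_mem hm hm]
  obtain ⟨x, hx, f⟩ := hX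
  have h2 := (hP.trans le_top (by
    have := (zpowers X).card_mul_index
    rw [c3, card_eq] at this
    rw [relIndex_top_right, index_comap_of_surjective _ sur, show (zpowers X).index = 16 by omega]
    decide)).map (centralizer {t}).subtype
  rw [← MonoidHom.range_eq_map, range_subtype] at h2
  exact ⟨_, h2, le_normalizer_map _ ⟨u, hn (mem_zpowers u), rfl⟩, x, ⟨x, hx, rfl⟩, f⟩

omit [Finite G] in
theorem cw (hU : UU G) {w : centralizer {t}} (pw : π w = N) (ww : (w : G) * w = 1)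
    (wu : (w : G) * u * (w : G)⁻¹ = t * u) {o : G} (ho : Odd (orderOf o)) (c : Commute o t) (d : Commute o u) :
    Commute (w : G) o := by
  have iw := eq_inv_of_mul_eq_one_left ww
  have k : o ∈ centralizer {t} := mem_centralizer_singleton_iff.2 c
  have po : π ⟨o, k⟩ = 1 := H11.eq_one_of_odd_of_sq
    (Odd.of_dvd_nat (by simpa using ho) (orderOf_map_dvd π _)) (cS _ (by
      rw [← e, ← map_mul, ← map_mul]; exact congrArg π (Subtype.ext d)))
  have wt : Commute (w : G) t := mem_centralizer_singleton_iff.1 w.2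
  have c' : Commute (w * o * (w : G)⁻¹) t := (wt.mul_left c).mul_left wt.inv_left
  have d' : Commute (w * o * (w : G)⁻¹) u := by
    have := (c'.mul_right (show Commute _ (t * u) by rw [← wu]; exact d.conj _))
    rwa [← mul_assoc, ht.1, one_mul] at this
  by_contra n
  refine net ht π sur odd e (hU (o⁻¹ * (w * o * (w : G)⁻¹)) w u t (fun h => n ?_)
    (od π odd (k := ⟨o, k⟩⁻¹ * (w * ⟨o, k⟩ * w⁻¹)) (by simp [po])) ⟨ww, fun h => ?_⟩ ?_ hu ht
    (d.inv_left.mul_left d').symm (c.inv_left.mul_left c').symm)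
  · exact mul_inv_eq_iff_eq_mul.1 (inv_mul_eq_one.1 h).symm
  · exact absurd (pw.symm.trans ((congrArg π (Subtype.ext h)).trans π.map_one)) (by decide +kernel)
  · simp only [mul_inv_rev, inv_inv, ← iw, mul_assoc, ww, mul_one]

omit [Finite G] in
theorem exh (hU : UU G) (hcj : IsConj t u) : ∃ w : centralizer {t}, π w = N ∧ (w : G) * u * (w * u) = t ∧
    ∃ h : G, h * t * h⁻¹ = u ∧ (∀ H : Subgroup G, (∀ v, Iv v → v ∈ H) → h ∈ H) ∧
      ∀ o : G, Odd (orderOf o) → Commute o t → Commute o u → Commute (w : G) o ∧ Commute h o := by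
  have n := net ht π sur odd e
  have ut : Commute (u : G) t := mem_centralizer_singleton_iff.1 u.2
  obtain ⟨w, pw, ww, wu⟩ := exw ht π sur odd hu e
  have wt : Commute (w : G) t := mem_centralizer_singleton_iff.1 w.2
  have iw : Iv (w : G) := ⟨ww, fun h =>
    absurd (pw.symm.trans ((congrArg π (Subtype.ext h)).trans π.map_one)) (by decide +kernel)⟩
  obtain ⟨g, hg⟩ := isConj_iff.1 hcj
  have gt : g⁻¹ * u * g⁻¹⁻¹ = t := by rw [← hg]; group
  obtain ⟨k, hk, f⟩ := cjK ht π sur odd (v := g⁻¹ * t * g⁻¹⁻¹) (mem_centralizer_singleton_iff.2 (by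
    nth_rw 2 3 [← gt]; exact (ut.symm.conj _).eq)) u.2 (cjI ht _) (fun h => n (by simpa using gt.trans h.symm)) hu n
  obtain ⟨d, d1, d2⟩ : ∃ d : G, d * t * d⁻¹ = u ∧ d * u * d⁻¹ = t := ⟨k * g⁻¹, by rw [← f]; group, by
    rw [show k * g⁻¹ * u * (k * g⁻¹)⁻¹ = k * (g⁻¹ * u * g⁻¹⁻¹) * k⁻¹ by group, gt,
      mem_centralizer_singleton_iff.1 hk, mul_inv_cancel_right]⟩
  have d3 : d⁻¹ * t * d⁻¹⁻¹ = u := (congrArg (d⁻¹ * · * d⁻¹⁻¹) d2.symm).trans (by group)
  have d4 : d⁻¹ * u * d⁻¹⁻¹ = t := by rw [← d1]; group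
  refine ⟨w, pw, ?_, w * (d * w * d⁻¹), ?_, fun H h => mul_mem (h _ iw) (h _ (cjI iw d)), fun o ho c c' => ?_⟩
  · nth_rw 2 [eq_inv_of_mul_eq_one_left ww]
    rw [← mul_assoc, wu, mul_assoc, hu.1, mul_one]
  · calc _ = w * (d * (w * (d⁻¹ * t * d⁻¹⁻¹) * (w : G)⁻¹) * d⁻¹) * (w : G)⁻¹ := by group
      _ = _ := by
        rw [d3, wu, ← conj_mul (b := d), d1, d2, ← conj_mul, wu, wt.eq, mul_inv_cancel_right, ← ut.eq, mul_assoc, ht.1, mul_one]
  · have a := cw ht π sur odd hu e hU pw ww wu ho c c'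
    refine ⟨a, a.mul_left ?_⟩
    have := (cw ht π sur odd hu e hU pw ww wu (o := d⁻¹ * o * d⁻¹⁻¹)
      (by rwa [← MulAut.conj_apply, MulEquiv.orderOf_eq]) (d4 ▸ c'.conj _) (d3 ▸ c.conj _)).conj d
    simpa [mul_assoc] using this

theorem no2 {w : centralizer {t}} (wu : (w : G) * u * (w * u) = t) {h : G} (ht' : h * t * h⁻¹ = u)
    (hH : ∀ H : Subgroup G, (∀ v, Iv v → v ∈ H) → h ∈ H) (H : Subgroup G) : H.index ≠ 2 := fun i => by
  have n := net ht π sur odd e
  have sq := mul_self_mem_of_index_two i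
  have hI : ∀ v, Iv v → v ∈ H := fun v hv => by
    obtain ⟨g, -, rfl⟩ := all ht π sur odd u.2 hu n le_top (mem_top h) ht' (fun _ _ => mem_top _) hv
    exact (normal_of_index_eq_two i).conj_mem _ (wu ▸ sq _) g
  have a : ∀ k : centralizer {t}, π k * π k = 1 → (k : G) ∈ H := fun k hk => by
    obtain ⟨m, f⟩ := od π odd (k := k * k) (by rw [map_mul, hk])
    have : (k : G) ^ (2 * m + 1) ∈ H := by
      by_cases c : (k : G) ^ (2 * m + 1) = 1
      · exact c ▸ one_mem _
      · exact hI _ ⟨by rw [← (Commute.refl _).mul_pow, ← f, ← coe_mul, pow_orderOf_eq_one], c⟩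
    rw [pow_succ, pow_mul, pow_two] at this
    exact (H.mul_mem_cancel_left (pow_mem (sq _) m)).1 this
  have hK : centralizer {t} ≤ H := fun k hk => by
    obtain ⟨b, hb, f⟩ := gen (π ⟨k, hk⟩)
    obtain ⟨b, rfl⟩ := sur b
    rcases f with f | f
    · exact (H.mul_mem_cancel_left (a b hb)).1 (a (b * ⟨k, hk⟩) (by rwa [map_mul]))
    · exact (H.mul_mem_cancel_left (mul_mem (a b hb) (hI _ hu))).1 (a (b * u * ⟨k, hk⟩) (by rwa [map_mul, map_mul, e]))
  have : H = ⊤ := eq_top_iff.2 fun g _ => by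
    obtain ⟨m, hm, f⟩ := all ht π sur odd u.2 hu n hK (hH H hI) ht' hI (cjI ht g)
    refine (H.mul_mem_cancel_left (inv_mem hm)).1 (hK (mem_centralizer_singleton_iff.2 ?_))
    calc m⁻¹ * g * t = m⁻¹ * (g * t * g⁻¹) * g := by group
      _ = _ := by rw [← f]; group
  simp [this] at i

end PY

open PY in
theorem ind.{u} (ch : ∀ {G : Type u} [Group G] [Finite G] {t : G} (_ : Iv t) (π : centralizer {t} →* M3)
      (_ : Surjective π) (_ : Odd (Nat.card π.ker)) (_ : ∀ v, Iv v → IsConj t v)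
      (_ : ∀ H : Subgroup G, H.index ≠ 2), 3 ∣ (centralizer {t}).index)
    {G : Type u} [Group G] [Finite G] (hU : UU G) {t u : G} (ht : Iv t) (hu : Iv u) (hne : u ≠ t)
    (hc : u * t = t * u) (hcj : IsConj t u) (π : centralizer {t} →* M3) (sur : Surjective π)
    (odd : Odd (Nat.card π.ker)) : False := by
  haveI : Fact (Nat.Prime 3) := ⟨Nat.prime_three⟩
  induction hn : Nat.card G using Nat.strong_induction_on generalizing G with
  | _ n ih =>
  subst hn
  obtain ⟨k, e⟩ := toS ht π sur odd (v := ⟨u, mem_centralizer_singleton_iff.2 hc⟩) hu hne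
  have hu' : Iv ((k⁻¹ * ⟨u, mem_centralizer_singleton_iff.2 hc⟩ * k : centralizer {t}) : G) := by
    simpa using cjI hu (k : G)⁻¹
  have hcj' : IsConj t ((k⁻¹ * ⟨u, mem_centralizer_singleton_iff.2 hc⟩ * k : centralizer {t}) : G) :=
    hcj.trans (isConj_iff.2 ⟨(k : G)⁻¹, by simp⟩)
  generalize k⁻¹ * ⟨u, mem_centralizer_singleton_iff.2 hc⟩ * k = u at e hu' hcj'
  have n := net ht π sur odd e
  obtain ⟨w, pw, wu, h, ht', hH, hw⟩ := exh ht π sur odd hu' e hU hcj'
  have h3 := ch ht π sur odd (fun v hv => by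
    obtain ⟨g, -, f⟩ := all ht π sur odd u.2 hu' n le_top (mem_top h) ht' (fun _ _ => mem_top _) hv
    exact isConj_iff.2 ⟨g, f⟩) (no2 ht π sur odd hu' e wu ht' hH)
  obtain ⟨P, hP, hn, x, hx, px⟩ := syl π sur odd hu' e
  have op : ∀ z ∈ P, Odd (orderOf z) := fun z hz => by
    obtain ⟨j, f⟩ := IsPGroup.iff_orderOf.1 hP.isPGroup ⟨z, hz⟩
    rw [← orderOf_coe] at f
    exact f ▸ Odd.pow (by decide)
  have pt : ∀ z ∈ P, Commute z t := fun z hz => mem_centralizer_singleton_iff.1 (hP.le hz)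
  by_cases c : ∃ o ∈ P ⊓ centralizer (P : Set G), o ≠ 1 ∧ Commute o u
  · obtain ⟨o, ho, o1, ou⟩ := c
    obtain ⟨wo, ho'⟩ := hw o (op o ho.1) (pt o ho.1) ou
    let L := centralizer ({o} : Set G)
    have m : ∀ {a}, Commute a o → a ∈ L := fun h => mem_centralizer_singleton_iff.2 h
    let o' : L := ⟨o, m (Commute.refl o)⟩
    let t' : L := ⟨t, m (pt o ho.1).symm⟩
    let u' : L := ⟨u, m ou.symm⟩
    have cz : ∀ c ∈ zpowers o', ∀ l : L, l * c = c * l := fun c hc l => by
      obtain ⟨j, rfl⟩ := mem_zpowers_iff.1 hc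
      exact (show Commute l o' from Subtype.ext (mem_centralizer_singleton_iff.1 l.2)).zpow_right j
    haveI : (zpowers o').Normal := ⟨fun c hc l => by rwa [cz c hc, mul_inv_cancel_right]⟩
    have hk : ∀ c, QuotientGroup.mk' (zpowers o') c = 1 → Odd (orderOf c) ∧ ∀ l, l * c = c * l := fun c hc =>
      have hc := (QuotientGroup.eq_one_iff c).1 hc
      ⟨H11.odd_orderOf_of_odd_card (by rw [Nat.card_zpowers, ← orderOf_coe]; exact op o ho.1) hc, cz c hc⟩
    have it : Iv t' := ⟨Subtype.ext ht.1, fun h => ht.2 (congrArg Subtype.val h)⟩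
    have iu : Iv u' := ⟨Subtype.ext hu'.1, fun h => hu'.2 (congrArg Subtype.val h)⟩
    have ut : u' * t' = t' * u' := Subtype.ext (mem_centralizer_singleton_iff.1 u.2)
    obtain ⟨π₁, s₁, o₁⟩ := res (t := t') π odd fun a => by
      have a1 : x ∈ L.comap (centralizer {t}).subtype := m (ho.2 x hx)
      have a2 : u ∈ L.comap (centralizer {t}).subtype := u'.2
      have a3 : w ∈ L.comap (centralizer {t}).subtype := m wo
      have : ∀ k ∈ L.comap (centralizer {t}).subtype, π k = a → ∃ k : centralizer {t}, (k : G) ∈ L ∧ π k = a :=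
        fun k a b => ⟨k, a, b⟩
      have a4 := mul_mem (mul_mem a3 a2) (mul_mem a3 a2)
      obtain ⟨i, k, j, l, f | f⟩ := gen3 a
      · exact this _ (mul_mem (mul_mem (pow_mem a1 i) (pow_mem a2 j)) (pow_mem a4 l)) (by simp [f, px, e, pw])
      · exact this _ (mul_mem (mul_mem (mul_mem (mul_mem (pow_mem a1 i) a3) (pow_mem a1 k)) (pow_mem a2 j))
          (pow_mem a4 l)) (by simp [f, px, e, pw])
    have fs := QuotientGroup.mk'_surjective (zpowers o')
    obtain ⟨π₂, s₂, o₂⟩ := quo _ fs hk it π₁ s₁ o₁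
    refine ih _ ?_ (UU.quo _ fs hk (UU.sub hU L)) (fI _ hk it) (fI _ hk iu) (fun f => n ?_)
      (by rw [← map_mul, ut, map_mul]) (MonoidHom.map_isConj _ (isConj_iff.2 ⟨⟨h, m ho'⟩, Subtype.ext ht'⟩)) π₂ s₂ o₂ rfl
    · have a1 := card_eq_card_quotient_mul_card_subgroup (zpowers o')
      have a2 : Nat.card L ≤ Nat.card G := Nat.card_le_card_of_injective _ L.subtype_injective
      have a3 : 1 < Nat.card (zpowers o') := (zpowers o').one_lt_card_iff_ne_bot.2 (by
        simpa using fun h => o1 (congrArg Subtype.val h))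
      have a4 : 0 < Nat.card (L ⧸ zpowers o') := Nat.card_pos
      nlinarith
    · have := H11.eq_one_of_odd_of_sq (hk (u' * t') (by rw [map_mul, f, ← map_mul, it.1, map_one])).1 (by
        rw [(show Commute t' u' from ut.symm).mul_mul_mul_comm, iu.1, it.1, one_mul])
      exact congrArg Subtype.val ((eq_inv_of_mul_eq_one_left this).trans (eq_inv_of_mul_eq_one_left it.1).symm)
  have iv : ∀ z ∈ P ⊓ centralizer (P : Set G), (u : G) * z * u = z⁻¹ := fun z hz => by
    have iu := eq_inv_of_mul_eq_one_left hu'.1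
    have a := zc hn hz
    rw [← iu] at a
    by_contra f
    refine c ⟨z * (u * z * u), mul_mem hz a, fun g => f (eq_inv_of_mul_eq_one_right g), ?_⟩
    rw [Commute, SemiconjBy]
    nth_rw 2 [a.2 z hz.1]
    simp only [mul_assoc, hu'.1, mul_one]
    rw [← mul_assoc (u : G) u, hu'.1, one_mul]
  obtain ⟨⟨z, hz⟩, z1⟩ := ne_bot_iff_exists_ne_one.1 (H1.inf_centralizer_ne_bot_of_isPGroup hP.isPGroup hP.isPGroup
    le_normalizer fun f => absurd (px.symm.trans ((congrArg π (Subtype.ext (mem_bot.1 (f ▸ hx)))).trans π.map_one))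
      (by decide +kernel))
  have hN : normalizer (P : Set G) ≤ centralizer {t} := fun g hg =>
    have a := zc hg hz
    mem_centralizer_singleton_iff.2 (mul_inv_eq_iff_eq_mul.1 (hU _ u _ t (by simpa using z1) (op _ a.1) hu' (iv _ a)
      (cjI ht g) ht ((pt z hz.1).symm.conj g) (pt _ a.1).symm))
  have := (H1.isSylowIn_of_isSylowIn_normalizer (K := ⊤) (hP.of_le (le_inf le_normalizer le_top)
    (inf_le_left.trans hN))).not_dvd
  exact this (relIndex_top_right (H := P) ▸ h3.trans (index_dvd_of_le hP.le))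

end Cfsg.Agent.Ov
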