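import Cfsg.Agent.Ov.A
import Cfsg.Agent.H19.W1
import Cfsg.Agent.H1.Coprime
import Cfsg.Agent.H2.Basic

/-! Involution centralizers with quotient `GL₂(3)`: lemmas on the centralizer. -/

set_option autoImplicit false
set_option linter.style.haveILetI false

namespace Cfsg.Agent.Ov

open Subgroup H19 H19.M3 Function

namespace PY

theorem gen3 : ∀ m : M3, ∃ i k : Fin 3, ∃ j l : Fin 2,
    m = X ^ i.1 * S ^ j.1 * (N * S * (N * S)) ^ l.1 ∨ m = X ^ i.1 * N * X ^ k.1 * S ^ j.1 * (N * S * (N * S)) ^ l.1 := by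
  decide +kernel

theorem cS : ∀ m : M3, m * S = S * m → m * m = 1 := by decide +kernel

theorem zX : ∀ m ∈ zpowers X, m = 1 ∨ m = X ∨ m * m = X := by
  intro m hm
  obtain ⟨k, rfl⟩ := mem_powers_iff_mem_zpowers.2 hm
  dsimp only
  induction k with
  | zero => exact .inl rfl
  | succ k ih =>
    rcases ih (pow_mem (mem_zpowers _) k) with e | e | e
    · exact .inr (.inl (by rw [pow_succ, e, one_mul]))
    · exact .inr (.inr (by rw [pow_succ, e]; decide +kernel))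
    · exact .inl (by
        rw [pow_succ]
        exact (by decide +kernel : ∀ m : M3, m * X = X * m → m * m = X → m ^ 3 = 1 → m * X = 1) _
          (Commute.pow_self X k) e (by rw [← pow_mul, mul_comm, pow_mul, show X ^ 3 = 1 by decide +kernel, one_pow]))

theorem oX : orderOf X = 3 := ord (by decide) (by decide +kernel)

variable {G : Type*} [Group G] [Finite G] {t : G} (ht : Iv t) (π : centralizer {t} →* M3) (sur : Surjective π)
  (odd : Odd (Nat.card π.ker))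

omit [Finite G] in
theorem tK : t ∈ centralizer {t} := mem_centralizer_singleton_iff.2 rfl

omit [Finite G] in
theorem cjI {v : G} (hv : Iv v) (g : G) : Iv (g * v * g⁻¹) := ⟨by rw [conj_mul, hv.1]; simp, by simpa using hv.2⟩

include odd in
omit [Finite G] in
theorem od {k : centralizer {t}} (h : π k = 1) : Odd (orderOf (k : G)) :=
  orderOf_coe k ▸ H11.odd_orderOf_of_odd_card odd h

include ht sur odd

omit [Finite G] in
theorem pT : π ⟨t, tK⟩ = T := by
  refine (central _ fun n => ?_).resolve_left fun e => ht.2 (H11.eq_one_of_odd_of_sq (od π odd e) ht.1)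
  obtain ⟨k, rfl⟩ := sur n
  rw [← map_mul, ← map_mul]
  exact congrArg π (Subtype.ext (mem_centralizer_singleton_iff.1 k.2))

omit [Finite G] in
theorem eqT {v : centralizer {t}} (hv : (v : G) * v = 1) (e : π v = T) : (v : G) = t := by
  have := H11.eq_one_of_odd_of_sq (od π odd (k := v * ⟨t, tK⟩) (by rw [map_mul, e, pT ht π sur odd]; decide +kernel)) (by
    rw [coe_mul, (show Commute t v from (mem_centralizer_singleton_iff.1 v.2).symm).mul_mul_mul_comm, hv, ht.1, one_mul])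
  rw [eq_inv_of_mul_eq_one_left this, ← eq_inv_of_mul_eq_one_left ht.1]

omit [Finite G] in
theorem toS {v : centralizer {t}} (hv : Iv (v : G)) (n : (v : G) ≠ t) : ∃ k, π (k⁻¹ * v * k) = S := by
  obtain ⟨m, e⟩ := invol_conj (π v) (by rw [← map_mul, show v * v = 1 from Subtype.ext hv.1, map_one])
    (fun e => hv.2 (H11.eq_one_of_odd_of_sq (od π odd e) hv.1)) fun e => n (eqT ht π sur odd hv.1 e)
  obtain ⟨k, rfl⟩ := sur m
  exact ⟨k, by simp [← e, mul_assoc]⟩

omit [Finite G] in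
theorem cjK {v v' : G} (k : v ∈ centralizer {t}) (k' : v' ∈ centralizer {t}) (hv : Iv v) (n : v ≠ t) (hv' : Iv v')
    (n' : v' ≠ t) : ∃ k ∈ centralizer {t}, k * v * k⁻¹ = v' := by
  obtain ⟨a, e⟩ := toS ht π sur odd (v := ⟨v, k⟩) hv n
  obtain ⟨b, f⟩ := toS ht π sur odd (v := ⟨v', k'⟩) hv' n'
  obtain ⟨m, h⟩ := H11.exists_pow_conj_of_odd (cjI hv (a : G)⁻¹).1 (cjI hv' (b : G)⁻¹).1 (by
    simpa using od π odd (k := a⁻¹ * ⟨v, k⟩ * a * (b⁻¹ * ⟨v', k'⟩ * b)) (by rw [map_mul, e, f]; decide +kernel))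
  have hy : (a : G)⁻¹ * v * (a : G)⁻¹⁻¹ * ((b : G)⁻¹ * v' * (b : G)⁻¹⁻¹) ∈ centralizer {t} := by
    simpa using (a⁻¹ * ⟨v, k⟩ * a * (b⁻¹ * ⟨v', k'⟩ * b)).2
  generalize (a : G)⁻¹ * v * (a : G)⁻¹⁻¹ * ((b : G)⁻¹ * v' * (b : G)⁻¹⁻¹) = y at h hy
  refine ⟨b * y ^ m * (a : G)⁻¹, mul_mem (mul_mem b.2 (pow_mem hy m)) (inv_mem a.2), ?_⟩
  rw [show v' = b * ((b : G)⁻¹ * v' * (b : G)⁻¹⁻¹) * (b : G)⁻¹ by group, ← h]
  simp only [mul_inv_rev, inv_inv, mul_assoc]

omit [Finite G] in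
theorem exw {u : centralizer {t}} (hu : Iv (u : G)) (e : π u = S) :
    ∃ w : centralizer {t}, π w = N ∧ (w : G) * w = 1 ∧ (w : G) * u * (w : G)⁻¹ = t * u := by
  obtain ⟨m, f⟩ := invol_conj N (by decide +kernel) (by decide +kernel) (by decide +kernel)
  obtain ⟨k, rfl⟩ := sur m
  have uu : u * u = 1 := Subtype.ext hu.1
  set y := k * u * k⁻¹ * u with hy
  have py : π y = N * S := by simp [hy, e, ← f]
  have o := od π odd (k := y ^ 4) (by rw [map_pow, py]; decide +kernel)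
  rw [orderOf_coe] at o
  have i : u * y * u⁻¹ = y⁻¹ := H11.invol_inverts_right (by rw [conj_mul, uu]; simp) uu
  obtain ⟨j, hj⟩ : ∃ j, orderOf (y ^ 4) * orderOf (y ^ 4) = 4 * j + 1 := by
    obtain ⟨j, hj⟩ := o
    exact ⟨j * j + j, by rw [hj]; ring⟩
  set r := y ^ (4 * j + 1) with hr
  have pr : π r = N * S := by
    rw [hr, map_pow, py, pow_succ, pow_mul, show (N * S) ^ 4 = 1 by decide +kernel, one_pow, one_mul]
  have r4 : r * r * (r * r) = 1 := by
    rw [show r * r * (r * r) = r ^ 4 by simp [pow_succ, mul_assoc], hr, ← hj, ← pow_mul, mul_comm, pow_mul, pow_mul,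
      pow_orderOf_eq_one, one_pow]
  have r2 := eqT ht π sur odd (v := r * r) (congrArg Subtype.val r4) (by rw [map_mul, pr]; decide +kernel)
  have ur : r * u = u * r⁻¹ := H11.pow_mul_of_inv i _
  refine ⟨r * u, by rw [map_mul, pr, e]; decide +kernel, congrArg Subtype.val (show r * u * (r * u) = 1 by
    nth_rw 1 [ur]; simp [mul_assoc, uu]), ?_⟩
  exact Eq.trans (congrArg Subtype.val (show r * u * u * (r * u)⁻¹ = r * r * u by
    rw [mul_assoc r u u, uu, mul_one, ur, mul_inv_rev, inv_inv, ← eq_inv_of_mul_eq_one_left uu, mul_assoc]))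
    (congrArg (· * (u : G)) r2)

theorem all {u : G} (uK : u ∈ centralizer {t}) (hu : Iv u) (n : u ≠ t) {H : Subgroup G} (hK : centralizer {t} ≤ H)
    {g : G} (hg : g ∈ H) (e : g * t * g⁻¹ = u) (hI : ∀ v, Iv v → v ∈ H) {v : G} (hv : Iv v) :
    ∃ n ∈ H, n * t * n⁻¹ = v := by
  have a : ∀ v ∈ centralizer {t}, Iv v → ∃ n ∈ H, n * t * n⁻¹ = v := fun v k hv => by
    by_cases c : v = t
    · exact ⟨1, one_mem _, by simp [c]⟩
    obtain ⟨k, hk, f⟩ := cjK ht π sur odd uK k hu n hv c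
    exact ⟨k * g, mul_mem (hK hk) hg, by rw [← f, ← e]; group⟩
  rcases Nat.even_or_odd (orderOf (t * v)) with o | o
  · obtain ⟨h1, h2, h3⟩ := H11.half_pow_commute (orderOf_pos _) ht.1 hv.1 o
    obtain ⟨m, hm, f⟩ := a _ (mem_centralizer_singleton_iff.2 h2)
      ⟨H11.mul_self_of_orderOf_two h1, H11.ne_one_of_orderOf_two h1⟩
    rw [← f] at h3
    obtain ⟨l, hl, f⟩ := a (m⁻¹ * v * m⁻¹⁻¹) (mem_centralizer_singleton_iff.2 (by
      rw [show t = m⁻¹ * (m * t * m⁻¹) * m⁻¹⁻¹ by group, conj_mul, conj_mul, h3.eq])) (cjI hv _)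
    exact ⟨m * l, mul_mem hm hl, by rw [show m * l * t * (m * l)⁻¹ = m * (l * t * l⁻¹) * m⁻¹ by group, f]; group⟩
  · obtain ⟨m, f⟩ := H11.exists_pow_conj_of_odd ht.1 hv.1 o
    exact ⟨_, pow_mem (mul_mem (hK tK) (hI v hv)) m, f⟩

end PY

end Cfsg.Agent.Ov
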