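import Cfsg.Agent.Ov.Y1

/-! Passing to a subgroup and to a quotient by a central subgroup of odd order. -/

set_option autoImplicit false
set_option linter.style.haveILetI false

namespace Cfsg.Agent.Ov.PY

open Subgroup H19 H19.M3 Function

theorem oddK {K : Type*} [Group K] [Finite K] {H : Subgroup K} (h : ∀ k ∈ H, Odd (orderOf k)) : Odd (Nat.card H) :=
  H11.odd_card_iff_no_invol.2 fun k hk e => absurd (e ▸ h k hk) (by decide)

theorem UU.sub {G : Type*} [Group G] (hU : UU G) (L : Subgroup G) : UU L := fun x v s s' a b c d e f g h =>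
  Subtype.ext (hU x v s s' (by simpa using a) (by simpa using b) ⟨congrArg Subtype.val c.1, by simpa using c.2⟩
    (congrArg Subtype.val d) ⟨congrArg Subtype.val e.1, by simpa using e.2⟩
    ⟨congrArg Subtype.val f.1, by simpa using f.2⟩ (congrArg Subtype.val g) (congrArg Subtype.val h))

theorem res {G : Type*} [Group G] [Finite G] {L : Subgroup G} {t : L} (π : centralizer {(t : G)} →* M3)
    (odd : Odd (Nat.card π.ker)) (hs : ∀ m, ∃ k : centralizer {(t : G)}, (k : G) ∈ L ∧ π k = m) :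
    ∃ π' : centralizer {t} →* M3, Surjective π' ∧ Odd (Nat.card π'.ker) := by
  let φ : centralizer {t} →* centralizer {(t : G)} := (L.subtype.comp (centralizer {t}).subtype).codRestrict _ fun k =>
    mem_centralizer_singleton_iff.2 (congrArg Subtype.val (mem_centralizer_singleton_iff.1 k.2))
  refine ⟨π.comp φ, fun m => ?_, oddK fun k hk => ?_⟩
  · obtain ⟨k, hk, e⟩ := hs m
    exact ⟨⟨⟨k, hk⟩, mem_centralizer_singleton_iff.2 (Subtype.ext (mem_centralizer_singleton_iff.1 k.2))⟩, e⟩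
  · have := od π odd (k := φ k) hk
    rwa [show ((φ k : _) : G) = ((k : L) : G) from rfl, orderOf_coe, orderOf_coe] at this

variable {L L' : Type*} [Group L] [Group L'] (f : L →* L') (fs : Surjective f)
  (hk : ∀ c, f c = 1 → Odd (orderOf c) ∧ ∀ l, l * c = c * l)
include hk

theorem lc {s x : L} (hs : s * s = 1) (e : f x * f s = f s * f x) : x * s = s * x := by
  obtain ⟨o, c⟩ := hk (x⁻¹ * (s * x * s⁻¹)) (by simp [← e])
  generalize h : x⁻¹ * (s * x * s⁻¹) = y at o c
  have h1 : s * x * s⁻¹ = x * y := by rw [← h]; group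
  have := H11.eq_one_of_odd_of_sq o (mul_left_cancel (a := x) (by
    calc x * (y * y) = s * x * s⁻¹ * y := by rw [h1, mul_assoc]
      _ = s * (x * y) * s⁻¹ := by rw [mul_assoc, c]; group
      _ = (s * s) * x * (s * s)⁻¹ := by rw [← h1]; group
      _ = x * 1 := by rw [hs]; group))
  rw [this, mul_one] at h1
  exact (mul_inv_eq_iff_eq_mul.1 h1).symm

theorem fI {s : L} (hs : Iv s) : Iv (f s) :=
  ⟨by rw [← map_mul, hs.1, map_one], fun e => hs.2 (H11.eq_one_of_odd_of_sq (hk s e).1 hs.1)⟩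

include fs

theorem lI {v : L'} (hv : Iv v) : ∃ w, Iv w ∧ f w = v := by
  obtain ⟨w, rfl⟩ := fs v
  obtain ⟨m, e⟩ := (hk (w * w) (by rw [map_mul, hv.1])).1
  have : f (w ^ (2 * m + 1)) = f w := by rw [map_pow, pow_succ, pow_mul, sq, hv.1, one_pow, one_mul]
  exact ⟨_, ⟨by rw [← (Commute.refl w).mul_pow, ← e, pow_orderOf_eq_one], fun h => hv.2 (by rw [← this, h, map_one])⟩, this⟩

theorem UU.quo (hU : UU L) : UU L' := fun x v s s' a b c d e e' g h => by
  obtain ⟨v, hv, rfl⟩ := lI f fs hk c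
  obtain ⟨s, hs, rfl⟩ := lI f fs hk e
  obtain ⟨s', hs', rfl⟩ := lI f fs hk e'
  obtain ⟨x, rfl⟩ := fs x
  have k : f (x * (v * x * v)) = 1 := by simp [d]
  obtain ⟨m, hm⟩ := H11.exists_sq_eq_of_odd (hk _ k).1
  have k' : f ((x * (v * x * v)) ^ m) = 1 := by rw [map_pow, k, one_pow]
  have cm := (hk _ k').2
  generalize (x * (v * x * v)) ^ m = y at hm k' cm
  have fx : f (x * y⁻¹) = f x := by simp [k']
  rw [← fx] at a b g h
  refine congrArg f (hU (x * y⁻¹) v s s' (fun e => a (by rw [e, map_one])) ?_ hv ?_ hs hs'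
    (lc f hk hs.1 g.symm).symm (lc f hk hs'.1 h.symm).symm)
  · exact Odd.of_dvd_nat (b.mul (hk ((x * y⁻¹) ^ orderOf (f (x * y⁻¹))) (by rw [map_pow, pow_orderOf_eq_one])).1)
      (orderOf_dvd_of_pow_eq_one (by rw [pow_mul, pow_orderOf_eq_one]))
  · have : y⁻¹ * v = v * y⁻¹ := (show Commute y v from (cm v).symm).inv_left
    calc v * (x * y⁻¹) * v = x⁻¹ * (x * (v * x * v)) * y⁻¹ := by rw [mul_assoc, mul_assoc, this]; group
      _ = _ := by rw [← hm, mul_inv_rev, inv_inv, ← cm x⁻¹]; group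

theorem quo [Finite L'] {t : L} (ht : Iv t) (π : centralizer {t} →* M3) (sur : Surjective π)
    (odd : Odd (Nat.card π.ker)) : ∃ π' : centralizer {f t} →* M3, Surjective π' ∧ Odd (Nat.card π'.ker) := by
  let φ : centralizer {t} →* centralizer {f t} := (f.comp (centralizer {t}).subtype).codRestrict _ fun k =>
    mem_centralizer_singleton_iff.2 (by simpa using congrArg f (mem_centralizer_singleton_iff.1 k.2))
  have sφ : Surjective φ := fun k => by
    obtain ⟨x, e⟩ := fs k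
    exact ⟨⟨x, mem_centralizer_singleton_iff.2 (lc f hk ht.1 (e ▸ mem_centralizer_singleton_iff.1 k.2))⟩, Subtype.ext e⟩
  have le : φ.ker ≤ π.ker := fun c hc => by
    obtain ⟨o, cm⟩ := hk c (congrArg Subtype.val hc)
    obtain ⟨s, e⟩ := sur S
    refine H11.eq_one_of_odd_of_sq (Odd.of_dvd_nat (orderOf_coe c ▸ o) (orderOf_map_dvd π c)) (cS _ ?_)
    rw [← e, ← map_mul, ← map_mul]
    exact congrArg π (Subtype.ext (cm s).symm)
  have a : ∀ k, φ.liftOfSurjective sφ ⟨π, le⟩ (φ k) = π k := fun k => φ.liftOfRightInverse_comp_apply _ _ ⟨π, le⟩ k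
  refine ⟨φ.liftOfSurjective sφ ⟨π, le⟩, fun m => ?_, oddK fun k h => ?_⟩
  · obtain ⟨k, rfl⟩ := sur m
    exact ⟨_, a k⟩
  · obtain ⟨k, rfl⟩ := sφ k
    exact Odd.of_dvd_nat (H11.odd_orderOf_of_odd_card odd (show k ∈ π.ker from (a k).symm.trans h)) (orderOf_map_dvd φ k)

end Cfsg.Agent.Ov.PY
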